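import Cfsg.Agent.Lib.KnownSimple.MultM.U43L.ValC0
import Cfsg.Agent.Lib.KnownSimple.MultC.UppW
import Cfsg.Agent.Lib.KnownSimple.MultC.ValH

/-!
# The relations between the relators
-/

set_option autoImplicit false

namespace Cfsg.Agent.Lib.KnownSimple.MultM.U43L

open Cfsg Cfsg.Spor Cfsg.Agent.Lib.Compute Cfsg.Agent.Lib.KnownSimple.PE Cfsg.Agent.Lib.KnownSimple.Leech
open Cfsg.Agent.Lib.KnownSimple Cfsg.Agent.Lib.KnownSimple.AutRigid Cfsg.Agent.Lib.KnownSimple.Pres
open Cfsg.Agent.Lib.KnownSimple.MultC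


theorem hEF : ∀ e, e < n * d → chkEdgeG 4294967296 mskM cKK C.τ d n RL 30 3 25 (lookP parT) (lookP genT) (lg 0 peL) tv e = true := by
  have h : allBelow fe 2700 = true :=
    allBelow_of_pad (m := 3) (s := 1024) (by norm_num) (fun c hc => by
    interval_cases c
    · exact ve0
    · exact ve1
    · exact ve2
  )
  intro e he
  exact (allBelow_iff _ _).1 h e he
set_option maxHeartbeats 0 in
set_option maxRecDepth 100000 in
theorem hLn : allBelow (fun q => Nat.blt (((lg [] RL q).length + 1) * 65536) 4294967296) 30 = true := by decide +kernel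
theorem hE : ∀ e, e < n * d → chkEdge C.τ d n RL 30 3 25 (lookP parT) (lookP genT) (lg 0 peL) (toV 4294967296 28 tv) e = true :=
  chkEdge_of_G (by norm_num) (good_of_mask (W := 32) (b := 16) (by norm_num) (by norm_num) (by norm_num) (by decide +kernel) (by decide +kernel))
    (fun l i hl hi => C.hlt l i hl hi) (fun q _ => words_lg hokR q) (len_of_chk hLn) hEF
set_option maxRecDepth 100000 in
/-- The relations. -/
def rowsF : List (ℕ × ℕ × List ℤ) := [(0,0,[.ofNat 2,.ofNat 0,.ofNat 0,.ofNat 0,.ofNat 0,.ofNat 0,.ofNat 0,.ofNat 0,.ofNat 0,.ofNat 0,.ofNat 0,.ofNat 0,.ofNat 0,.ofNat 0,.ofNat 0,.ofNat 0,.ofNat 0,.ofNat 0,.ofNat 0,.ofNat 0,.ofNat 0,.ofNat 0,.ofNat 0,.ofNat 0,.ofNat 0,.ofNat 0,.ofNat 0,.ofNat 0]),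
  (0,1,[.ofNat 0,.ofNat 2,.ofNat 0,.ofNat 0,.ofNat 0,.ofNat 0,.ofNat 0,.ofNat 0,.ofNat 0,.ofNat 0,.ofNat 0,.ofNat 0,.ofNat 0,.ofNat 0,.ofNat 0,.ofNat 0,.ofNat 0,.ofNat 0,.ofNat 0,.ofNat 0,.ofNat 0,.ofNat 0,.ofNat 0,.ofNat 0,.ofNat 0,.ofNat 0,.ofNat 0,.ofNat 0]),
  (0,2,[.ofNat 0,.ofNat 0,.ofNat 0,.ofNat 0,.ofNat 0,.ofNat 0,.ofNat 0,.ofNat 0,.ofNat 0,.ofNat 0,.ofNat 0,.ofNat 0,.ofNat 0,.ofNat 0,.ofNat 0,.ofNat 0,.ofNat 0,.ofNat 0,.ofNat 0,.ofNat 0,.ofNat 0,.ofNat 0,.ofNat 0,.ofNat 0,.ofNat 0,.ofNat 0,.ofNat 0,.ofNat 0]),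
  (0,5,[.ofNat 4,.ofNat 4,.ofNat 0,.ofNat 0,.ofNat 0,.ofNat 0,.ofNat 0,.ofNat 0,.ofNat 0,.ofNat 0,.ofNat 0,.ofNat 0,.ofNat 0,.ofNat 0,.ofNat 0,.ofNat 0,.ofNat 0,.ofNat 0,.ofNat 0,.ofNat 0,.ofNat 0,.ofNat 0,.ofNat 0,.ofNat 0,.ofNat 0,.ofNat 0,.ofNat 0,.ofNat 0]),
  (0,6,[.ofNat 4,.ofNat 0,.ofNat 0,.ofNat 0,.ofNat 0,.ofNat 0,.ofNat 0,.ofNat 0,.ofNat 0,.ofNat 0,.ofNat 0,.ofNat 0,.ofNat 0,.ofNat 0,.ofNat 0,.ofNat 0,.ofNat 0,.ofNat 0,.ofNat 0,.ofNat 0,.ofNat 0,.ofNat 0,.ofNat 0,.ofNat 0,.ofNat 0,.ofNat 0,.ofNat 0,.ofNat 0]),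
  (0,9,[.ofNat 0,.ofNat 3,.ofNat 0,.ofNat 0,.ofNat 0,.ofNat 0,.ofNat 0,.ofNat 0,.ofNat 0,.ofNat 0,.ofNat 0,.ofNat 0,.ofNat 0,.ofNat 0,.ofNat 0,.ofNat 0,.ofNat 0,.ofNat 0,.ofNat 0,.ofNat 0,.ofNat 0,.ofNat 0,.ofNat 0,.ofNat 0,.ofNat 0,.ofNat 0,.ofNat 0,.ofNat 0]),
  (0,15,[.ofNat 5,.ofNat 4,.ofNat 0,.ofNat 0,.ofNat 0,.ofNat 0,.ofNat 0,.ofNat 0,.ofNat 0,.ofNat 0,.ofNat 0,.ofNat 0,.ofNat 0,.ofNat 0,.ofNat 0,.ofNat 0,.ofNat 0,.ofNat 0,.ofNat 0,.ofNat 0,.ofNat 0,.ofNat 0,.ofNat 0,.ofNat 0,.ofNat 0,.ofNat 0,.ofNat 0,.ofNat 0]),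
  (0,16,[.ofNat 5,.ofNat 5,.ofNat 0,.ofNat 0,.ofNat 0,.ofNat 0,.ofNat 0,.ofNat 0,.ofNat 0,.ofNat 0,.ofNat 0,.ofNat 0,.ofNat 0,.ofNat 0,.ofNat 0,.ofNat 0,.ofNat 0,.ofNat 0,.ofNat 0,.ofNat 0,.ofNat 0,.ofNat 0,.ofNat 0,.ofNat 0,.ofNat 0,.ofNat 0,.ofNat 0,.ofNat 0]),
  (0,17,[.ofNat 5,.ofNat 4,.ofNat 0,.ofNat 0,.ofNat 0,.ofNat 0,.ofNat 0,.ofNat 0,.ofNat 0,.ofNat 0,.ofNat 0,.ofNat 0,.ofNat 0,.ofNat 0,.ofNat 0,.ofNat 0,.ofNat 0,.ofNat 0,.ofNat 0,.ofNat 0,.ofNat 0,.ofNat 0,.ofNat 0,.ofNat 0,.ofNat 0,.ofNat 0,.ofNat 0,.ofNat 0]),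
  (0,25,[.negSucc 0,.ofNat 0,.ofNat 0,.ofNat 0,.ofNat 0,.ofNat 0,.ofNat 0,.ofNat 0,.ofNat 0,.ofNat 0,.ofNat 0,.ofNat 0,.ofNat 0,.ofNat 0,.ofNat 0,.ofNat 0,.ofNat 0,.ofNat 0,.ofNat 0,.ofNat 0,.ofNat 0,.ofNat 0,.ofNat 0,.ofNat 0,.ofNat 0,.ofNat 0,.ofNat 0,.ofNat 0]),
  (0,26,[.ofNat 0,.negSucc 0,.ofNat 0,.ofNat 0,.ofNat 0,.ofNat 0,.ofNat 0,.ofNat 0,.ofNat 0,.ofNat 0,.ofNat 0,.ofNat 0,.ofNat 0,.ofNat 0,.ofNat 0,.ofNat 0,.ofNat 0,.ofNat 0,.ofNat 0,.ofNat 0,.ofNat 0,.ofNat 0,.ofNat 0,.ofNat 0,.ofNat 0,.ofNat 0,.ofNat 0,.ofNat 0]),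
  (10,28,[.ofNat 0,.ofNat 0,.ofNat 0,.negSucc 3,.negSucc 2,.negSucc 2,.ofNat 1,.ofNat 0,.ofNat 1,.ofNat 0,.negSucc 0,.ofNat 1,.ofNat 1,.negSucc 0,.negSucc 0,.ofNat 0,.ofNat 0,.ofNat 0,.ofNat 0,.ofNat 0,.ofNat 0,.ofNat 0,.ofNat 0,.ofNat 1,.ofNat 0,.ofNat 0,.ofNat 0,.ofNat 0]),
  (11,28,[.ofNat 0,.ofNat 0,.ofNat 0,.ofNat 4,.ofNat 4,.ofNat 3,.negSucc 0,.ofNat 0,.negSucc 0,.ofNat 0,.ofNat 1,.negSucc 0,.negSucc 0,.ofNat 0,.ofNat 1,.ofNat 0,.ofNat 0,.ofNat 0,.ofNat 0,.ofNat 0,.ofNat 0,.ofNat 0,.ofNat 0,.negSucc 0,.ofNat 0,.ofNat 0,.ofNat 0,.ofNat 0]),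
  (12,9,[.ofNat 1,.ofNat 0,.ofNat 0,.ofNat 1,.ofNat 0,.ofNat 0,.ofNat 0,.negSucc 1,.ofNat 0,.ofNat 0,.ofNat 0,.negSucc 0,.ofNat 0,.ofNat 0,.ofNat 1,.ofNat 0,.ofNat 1,.ofNat 0,.ofNat 0,.ofNat 0,.ofNat 0,.ofNat 0,.ofNat 0,.ofNat 0,.ofNat 0,.ofNat 0,.ofNat 0,.ofNat 0]),
  (33,18,[.ofNat 0,.ofNat 0,.ofNat 0,.ofNat 0,.ofNat 0,.ofNat 3,.ofNat 0,.ofNat 0,.ofNat 0,.ofNat 0,.ofNat 1,.ofNat 0,.ofNat 0,.ofNat 0,.ofNat 0,.ofNat 0,.ofNat 0,.ofNat 0,.ofNat 0,.ofNat 0,.ofNat 0,.ofNat 0,.ofNat 0,.ofNat 0,.ofNat 0,.ofNat 0,.ofNat 0,.ofNat 0]),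
  (37,24,[.negSucc 5,.negSucc 3,.negSucc 2,.ofNat 5,.ofNat 9,.ofNat 3,.ofNat 8,.ofNat 3,.negSucc 0,.ofNat 0,.ofNat 2,.ofNat 2,.ofNat 3,.negSucc 2,.negSucc 0,.ofNat 0,.ofNat 1,.negSucc 0,.ofNat 0,.ofNat 0,.ofNat 0,.negSucc 0,.ofNat 1,.negSucc 1,.ofNat 0,.ofNat 0,.ofNat 0,.negSucc 0]),
  (50,25,[.ofNat 0,.ofNat 0,.negSucc 0,.ofNat 1,.ofNat 0,.ofNat 0,.ofNat 0,.negSucc 1,.ofNat 0,.ofNat 0,.negSucc 0,.ofNat 0,.ofNat 0,.ofNat 0,.ofNat 0,.ofNat 0,.ofNat 0,.ofNat 1,.ofNat 0,.ofNat 0,.ofNat 0,.ofNat 0,.ofNat 0,.ofNat 0,.ofNat 0,.ofNat 0,.ofNat 0,.ofNat 0]),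
  (123,29,[.ofNat 0,.ofNat 1,.ofNat 0,.ofNat 0,.ofNat 1,.ofNat 0,.ofNat 0,.ofNat 1,.ofNat 0,.ofNat 0,.ofNat 0,.ofNat 0,.ofNat 0,.ofNat 0,.negSucc 0,.ofNat 0,.ofNat 0,.ofNat 0,.ofNat 0,.ofNat 0,.ofNat 0,.ofNat 0,.ofNat 0,.ofNat 0,.ofNat 0,.ofNat 0,.ofNat 0,.ofNat 0]),
  (141,26,[.ofNat 0,.ofNat 0,.ofNat 0,.ofNat 0,.ofNat 0,.ofNat 0,.ofNat 1,.ofNat 0,.ofNat 0,.ofNat 0,.ofNat 0,.ofNat 0,.ofNat 0,.negSucc 0,.ofNat 0,.ofNat 0,.ofNat 0,.ofNat 0,.ofNat 0,.ofNat 0,.ofNat 0,.ofNat 0,.ofNat 0,.ofNat 0,.ofNat 0,.ofNat 0,.ofNat 0,.ofNat 0]),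
  (168,21,[.ofNat 0,.ofNat 0,.ofNat 0,.negSucc 2,.ofNat 5,.ofNat 0,.ofNat 2,.ofNat 0,.ofNat 0,.ofNat 0,.ofNat 1,.ofNat 0,.ofNat 0,.negSucc 4,.negSucc 0,.ofNat 0,.ofNat 0,.ofNat 0,.ofNat 0,.ofNat 0,.ofNat 0,.ofNat 0,.ofNat 0,.ofNat 0,.ofNat 1,.ofNat 1,.ofNat 0,.ofNat 0]),
  (173,10,[.ofNat 0,.ofNat 0,.ofNat 0,.ofNat 0,.ofNat 1,.ofNat 0,.negSucc 0,.negSucc 1,.ofNat 0,.ofNat 0,.ofNat 0,.ofNat 0,.ofNat 0,.ofNat 0,.ofNat 0,.ofNat 0,.ofNat 0,.ofNat 1,.ofNat 0,.ofNat 0,.ofNat 0,.ofNat 0,.ofNat 0,.ofNat 0,.ofNat 0,.ofNat 0,.ofNat 0,.ofNat 0]),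
  (250,10,[.ofNat 0,.ofNat 0,.ofNat 0,.negSucc 2,.ofNat 2,.ofNat 0,.ofNat 1,.ofNat 0,.ofNat 0,.ofNat 0,.ofNat 1,.ofNat 0,.ofNat 0,.negSucc 1,.ofNat 0,.negSucc 0,.ofNat 0,.ofNat 0,.ofNat 0,.ofNat 0,.ofNat 0,.ofNat 0,.ofNat 1,.ofNat 0,.ofNat 0,.ofNat 0,.ofNat 0,.ofNat 0]),
  (308,21,[.ofNat 0,.ofNat 0,.ofNat 0,.ofNat 4,.negSucc 2,.ofNat 0,.negSucc 0,.ofNat 0,.ofNat 1,.ofNat 0,.negSucc 0,.ofNat 0,.ofNat 0,.ofNat 4,.ofNat 1,.ofNat 0,.ofNat 0,.ofNat 0,.ofNat 0,.ofNat 0,.ofNat 0,.ofNat 0,.ofNat 0,.ofNat 0,.negSucc 1,.ofNat 1,.ofNat 0,.ofNat 0]),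
  (335,22,[.ofNat 0,.ofNat 0,.ofNat 0,.ofNat 0,.ofNat 3,.ofNat 0,.ofNat 0,.ofNat 3,.ofNat 0,.ofNat 0,.ofNat 1,.ofNat 0,.ofNat 0,.ofNat 0,.negSucc 0,.ofNat 0,.ofNat 0,.ofNat 0,.ofNat 0,.ofNat 0,.ofNat 0,.ofNat 0,.ofNat 0,.ofNat 0,.ofNat 0,.ofNat 0,.ofNat 0,.ofNat 0]),
  (336,4,[.ofNat 0,.ofNat 0,.ofNat 2,.ofNat 0,.ofNat 0,.ofNat 0,.ofNat 0,.ofNat 2,.ofNat 0,.ofNat 0,.ofNat 0,.ofNat 0,.negSucc 1,.ofNat 0,.ofNat 2,.ofNat 2,.ofNat 0,.negSucc 1,.ofNat 0,.ofNat 0,.ofNat 0,.ofNat 0,.ofNat 0,.ofNat 0,.ofNat 0,.ofNat 0,.ofNat 0,.ofNat 0]),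
  (336,29,[.ofNat 0,.ofNat 0,.negSucc 0,.ofNat 0,.ofNat 0,.ofNat 0,.ofNat 0,.negSucc 0,.ofNat 0,.ofNat 0,.ofNat 0,.ofNat 0,.ofNat 1,.ofNat 0,.negSucc 0,.negSucc 0,.ofNat 0,.ofNat 1,.ofNat 0,.ofNat 0,.ofNat 0,.ofNat 0,.ofNat 0,.ofNat 0,.ofNat 0,.ofNat 0,.ofNat 0,.ofNat 0]),
  (396,26,[.ofNat 0,.ofNat 0,.ofNat 0,.ofNat 2,.negSucc 0,.ofNat 0,.ofNat 0,.ofNat 0,.ofNat 0,.ofNat 0,.ofNat 0,.ofNat 0,.ofNat 1,.ofNat 1,.ofNat 0,.ofNat 0,.ofNat 0,.ofNat 0,.ofNat 0,.ofNat 0,.ofNat 0,.ofNat 0,.ofNat 0,.negSucc 0,.ofNat 0,.ofNat 0,.ofNat 0,.ofNat 0]),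
  (480,28,[.negSucc 2,.negSucc 5,.ofNat 0,.negSucc 7,.negSucc 8,.negSucc 0,.ofNat 1,.negSucc 2,.ofNat 2,.negSucc 0,.negSucc 0,.ofNat 1,.negSucc 0,.negSucc 0,.ofNat 1,.ofNat 0,.ofNat 0,.ofNat 0,.ofNat 1,.ofNat 0,.ofNat 1,.ofNat 0,.ofNat 0,.ofNat 1,.ofNat 3,.ofNat 0,.negSucc 2,.ofNat 0]),
  (483,26,[.negSucc 2,.negSucc 0,.negSucc 3,.ofNat 16,.ofNat 13,.ofNat 2,.ofNat 2,.negSucc 3,.negSucc 2,.negSucc 1,.ofNat 2,.negSucc 1,.ofNat 1,.negSucc 3,.ofNat 2,.negSucc 0,.ofNat 1,.negSucc 0,.negSucc 0,.negSucc 0,.negSucc 0,.ofNat 1,.ofNat 0,.ofNat 0,.negSucc 2,.ofNat 0,.ofNat 3,.ofNat 2])]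
set_option maxRecDepth 100000 in
/-- The relations, packed. -/
def rowsP : List (ℕ × ℕ × ℕ × ℕ) := [(0,0,2,0),
  (0,1,8589934592,0),
  (0,2,0,0),
  (0,5,17179869188,0),
  (0,6,4,0),
  (0,9,12884901888,0),
  (0,15,17179869189,0),
  (0,16,21474836485,0),
  (0,17,17179869189,0),
  (0,25,0,1),
  (0,26,0,4294967296),
  (10,28,361473786714651839609485931802192366508973300717001923159475447150424810286233407987951861887389439612274966185786557130473458238158580628193585199205451990645961950975773603585014567286955908602358562563083519394714746880,726838724464837218559627449219694853212166733919310569202741213023678931818248510405047792519872058597007545035568764792195180719505408),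
  (11,28,726838724295606890549323807888004534355777347723238970363885220886808840228000627848552087988623961006807353053048877888396632761827328,361473786714651839609485931802192366508973300717001923159475447150424810286233407987951861887389439612274966185786557130473458238158580628193585199205451990645961950975773603585014567286955908602358562563083519394714746880),
  (12,9,13407807929942597100300863722501453018028689628480397912077202804409082090355037175982513586280301351016222908900249616414516483646375262144305844178649089,9173994463960286046443283581208347763240179850007425774539689387721730765701213521125155357402709966716928),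
  (33,18,2135987035920910082395021706169552114602704522361037274859034316576830780278789399081929884565504,0),
  (37,24,84162174424773976115855838126082058648805436845170781751985902257029657065852867178816870426569012791470927426503144074518497839261756854743597099472583445233954233256807367520436432994047964553837685334953951232,123003155723136208567847447683223664416454816754144369624169271015101969624719230306049979098277246751350616287653314752623957316523259369228696121064820010851645814586846582171840509668001135226887601755297752817832184017954061834198766899836504854709175058438),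
  (50,25,57586096570152913699974892898380567793532123114264532903689671329431521032595044740083720782129802971518987656109067457577065805510327115247471508579411690889674752,2135987035920910082395021706223472007937005801945986800121080869169494014625740141729243016986624),
  (123,29,26959946667150639794667015087359913040558082886003947088539673427968,726838724295606890549323807888004534353641360687318060281490199180639288113397923326191050713763565560762521606266177933534601628614656),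
  (141,26,6277101735386680763835789423207666416102355444464034512896,169230328010303641331690318856389386196071598838855992136870091590247882556495704531248437872567112920983350278405979725889536),
  (168,21,6668014434432372366380560725870237285607260877572794177512954422903089275843683024207809087202432699571576388543920971143019874860290945124478172579762153242046421113740175704036042806720805137786694937375748104415158146950503257193976954880,726838725141758530600842014546456128635588291667676054475770159864989746064637336108669573370005754923598323895670472118577280889913344),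
  (173,10,57586096570152913699974892898380567793532123114264532903689671329431521032595044740083720782129802971518987656109067457577066145792693956957772457689681529113935872,53919893340578381324720710937875050770481955261183500406671255011328),
  (250,10,84162174424773976115855838126082058648805436845170781751972494449099714468753293153818664580441415219631727501698853619395346836913023256831751205882544702580907670777505825129028599395418287145995374317430374400,3121748550315992231720057885813773588411978780377749923251300157303083723093505803300801868176483380222323806866541086421902219029113025389920256),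
  (308,21,6668014432879854274079851790721257797144758322315908160396257811764037237817632071521432200871554290742930637432158212974091392192492579846173135251236301650550794609473831915433748098936351207285711626722922298912457637131164978099001491456,3105036184601417870297958976925005110513772034233393222278104076052101905372753772661756817657292955900975461394262146412343160088229630918875610470992444673430616121593814420082154663302647601548770344577640524634814983429058199552),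
  (335,22,2135987035920910082395021706250431954604156441740653815209121346943893974438652391288568222318592,726838724295606890549323807888004534353641360687318060281490199180639288113397923326191050713763565560762521606266177933534601628614656),
  (336,4,6243497102085661911354408240684980227273205354037225023092950039813723876000863736360742354058955377777355032625685563292273425264096128509411328,115172193140305827399949785796761135587064246228607869819772131617287600145390376707777601042800536836373871899026626358697126032243482604548387819911761450672062464),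
  (336,29,57586096570152913699974892898380567793532123114303934909886065808643800072695188353888800521400268418186935949513313179348563016121741302274193909955880725336031232,3121748551042830955677204120342490113636602677018612511546475019906861938000431868180371177029477688888677516312842781646136712632048064254705664),
  (396,26,169230328049705647528084798068668426296215212643935731407335538258196175960741426302745648483981537632193294447887794804097024,361473786714651839609485931802192366508973300717001923159475447150424810286233407987951861887389439612274926783780351561999781998832434041296198795326329101623141899709787663433296905619348418469579405476665427318582280192),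
  (480,28,4657554277263600592161590304996993597577412858476685329353046539244801701068509200307136841594506346444577414317681436168701798909296946041760988338398442595371102706013544118165080440850688986785898460908885547653638276807326171136,85916711755424883613256351801024515472165217516511957588324349106933192016058712478035852797473885126288078527656999160223190751501548179806982606209491809665951955557383599047340159525789397275888362608693006133917937146920480864534529240049400152067),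
  (483,26,246006311532189128891119778979703680632488253833595349406392960358076889520587968023685056423534240412249804098585370731561943877144295487514985945740789584044536168415077082648256791771140674911103495114913119234946872008010018493961060683860455659380397834240,4657554276902126805446938465387507665775220491968774304621678150282763016427759480189265716483456518124888158016572866094610038032983121416112611476404859629020719858271417317159288146329305824286583995501786072359704624790669099011)]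
set_option maxHeartbeats 0 in
set_option maxRecDepth 100000 in
theorem hFm : (rowsP.map fun x => (x.1, x.2.1, decV 4294967296 28 x.2.2.1 x.2.2.2)) = rowsF := by decide +kernel
set_option maxHeartbeats 0 in
set_option maxRecDepth 100000 in
theorem hFb : (rowsP.all fun x => bcond (maskOK mskM cKK x.2.2.1) (maskOK mskM cKK x.2.2.2) false) = true := by decide +kernel
set_option maxHeartbeats 0 in
set_option maxRecDepth 100000 in
theorem hFc : (rowsP.all (chkRowG τ d n RL 30 (n * d) 2160 tv)) = true := by decide +kernel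
theorem hF : ∀ x ∈ rowsF, chkRow C.τ d n RL 30 (n * d) 2160 (toV 4294967296 28 tv) x = true :=
  chkRow_of_G (by norm_num) (good_of_mask (W := 32) (b := 16) (by norm_num) (by norm_num) (by norm_num) (by decide +kernel) (by decide +kernel))
    (fun l i hl hi => C.hlt l i hl hi) (fun q _ => words_lg hokR q) (len_of_chk hLn) hEF rowsP rowsF hFm hFb hFc

/-- The chosen relators. -/
abbrev ssL : List ℕ := [24,23,21]
set_option maxRecDepth 100000 in
/-- A combination. -/
def cb0 : List (ℕ × ℤ) := [(0,.negSucc 0),(9,.negSucc 1)]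
set_option maxHeartbeats 0 in
set_option maxRecDepth 100000 in
theorem hcb0 : chkCombW 3 25 rowsF [] 0 cb0 = true := by decide +kernel
set_option maxRecDepth 100000 in
/-- A combination. -/
def cb1 : List (ℕ × ℤ) := [(1,.negSucc 0),(10,.negSucc 1)]
set_option maxHeartbeats 0 in
set_option maxRecDepth 100000 in
theorem hcb1 : chkCombW 3 25 rowsF [] 1 cb1 = true := by decide +kernel
set_option maxRecDepth 100000 in
/-- A combination. -/
def cb2 : List (ℕ × ℤ) := [(2,.negSucc 0)]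
set_option maxHeartbeats 0 in
set_option maxRecDepth 100000 in
theorem hcb2 : chkCombW 3 25 rowsF [] 2 cb2 = true := by decide +kernel
set_option maxRecDepth 100000 in
/-- A combination. -/
def cb3 : List (ℕ × ℤ) := [(1,.negSucc 0),(10,.negSucc 1),(11,.negSucc 0),(12,.negSucc 0),(18,.ofNat 1)]
set_option maxHeartbeats 0 in
set_option maxRecDepth 100000 in
theorem hcb3 : chkCombW 3 25 rowsF [] 3 cb3 = true := by decide +kernel
set_option maxRecDepth 100000 in
/-- A combination. -/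
def cb4 : List (ℕ × ℤ) := [(24,.negSucc 0),(25,.negSucc 1)]
set_option maxHeartbeats 0 in
set_option maxRecDepth 100000 in
theorem hcb4 : chkCombW 3 25 rowsF [] 4 cb4 = true := by decide +kernel
set_option maxRecDepth 100000 in
/-- A combination. -/
def cb5 : List (ℕ × ℤ) := [(3,.negSucc 0),(9,.negSucc 3),(10,.negSucc 3)]
set_option maxHeartbeats 0 in
set_option maxRecDepth 100000 in
theorem hcb5 : chkCombW 3 25 rowsF [] 5 cb5 = true := by decide +kernel
set_option maxRecDepth 100000 in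
/-- A combination. -/
def cb6 : List (ℕ × ℤ) := [(4,.negSucc 0),(9,.negSucc 3)]
set_option maxHeartbeats 0 in
set_option maxRecDepth 100000 in
theorem hcb6 : chkCombW 3 25 rowsF [] 6 cb6 = true := by decide +kernel
set_option maxRecDepth 100000 in
/-- A combination. -/
def cb7 : List (ℕ × ℤ) := [(0,.negSucc 14),(1,.ofNat 9),(2,.negSucc 3),(3,.ofNat 1),(4,.ofNat 3),(5,.negSucc 0),(7,.ofNat 1),(9,.negSucc 1),(10,.ofNat 22),(11,.ofNat 2),(12,.ofNat 2),(13,.ofNat 1),(14,.negSucc 0),(16,.ofNat 3),(17,.negSucc 8),(18,.negSucc 7),(19,.ofNat 3),(20,.negSucc 4),(23,.ofNat 3),(24,.ofNat 8),(25,.ofNat 17),(26,.negSucc 0),(27,.negSucc 0),(28,.negSucc 0)]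
set_option maxHeartbeats 0 in
set_option maxRecDepth 100000 in
theorem hcb7 : chkCombW 3 25 rowsF [(24,(2 : ℤ))] 7 cb7 = true := by decide +kernel
set_option maxRecDepth 100000 in
/-- A combination. -/
def cb8 : List (ℕ × ℤ) := [(0,.negSucc 16),(1,.ofNat 5),(2,.negSucc 6),(3,.ofNat 2),(4,.ofNat 3),(5,.ofNat 1),(7,.ofNat 1),(9,.negSucc 1),(10,.ofNat 23),(11,.ofNat 4),(12,.ofNat 3),(13,.ofNat 1),(14,.negSucc 0),(16,.ofNat 3),(17,.negSucc 9),(18,.negSucc 8),(19,.ofNat 3),(20,.negSucc 4),(23,.ofNat 3),(24,.ofNat 7),(25,.ofNat 15),(27,.negSucc 0),(28,.negSucc 0)]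
set_option maxHeartbeats 0 in
set_option maxRecDepth 100000 in
theorem hcb8 : chkCombW 3 25 rowsF [(24,(2 : ℤ))] 8 cb8 = true := by decide +kernel
set_option maxRecDepth 100000 in
/-- A combination. -/
def cb9 : List (ℕ × ℤ) := [(5,.negSucc 0),(10,.negSucc 2)]
set_option maxHeartbeats 0 in
set_option maxRecDepth 100000 in
theorem hcb9 : chkCombW 3 25 rowsF [] 9 cb9 = true := by decide +kernel
set_option maxRecDepth 100000 in
/-- A combination. -/
def cb10 : List (ℕ × ℤ) := [(1,.negSucc 0),(10,.negSucc 1),(11,.negSucc 0),(12,.negSucc 0)]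
set_option maxHeartbeats 0 in
set_option maxRecDepth 100000 in
theorem hcb10 : chkCombW 3 25 rowsF [] 10 cb10 = true := by decide +kernel
set_option maxRecDepth 100000 in
/-- A combination. -/
def cb11 : List (ℕ × ℤ) := [(1,.negSucc 0),(10,.negSucc 2),(17,.negSucc 0),(24,.negSucc 0),(25,.negSucc 1)]
set_option maxHeartbeats 0 in
set_option maxRecDepth 100000 in
theorem hcb11 : chkCombW 3 25 rowsF [] 11 cb11 = true := by decide +kernel
set_option maxRecDepth 100000 in
/-- A combination. -/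
def cb12 : List (ℕ × ℤ) := [(0,.negSucc 13),(1,.ofNat 10),(2,.negSucc 3),(3,.ofNat 1),(4,.ofNat 3),(5,.negSucc 1),(7,.ofNat 1),(10,.ofNat 22),(11,.ofNat 2),(12,.ofNat 2),(13,.ofNat 1),(14,.negSucc 0),(16,.ofNat 4),(17,.negSucc 7),(18,.negSucc 7),(19,.ofNat 3),(20,.negSucc 4),(23,.ofNat 3),(24,.ofNat 8),(25,.ofNat 16),(26,.negSucc 0),(27,.negSucc 0),(28,.negSucc 0)]
set_option maxHeartbeats 0 in
set_option maxRecDepth 100000 in
theorem hcb12 : chkCombW 3 25 rowsF [(24,(2 : ℤ))] 12 cb12 = true := by decide +kernel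
set_option maxRecDepth 100000 in
/-- A combination. -/
def cb13 : List (ℕ × ℤ) := [(0,.negSucc 15),(1,.ofNat 6),(2,.negSucc 6),(3,.ofNat 2),(4,.ofNat 3),(7,.ofNat 1),(9,.ofNat 1),(10,.ofNat 23),(11,.ofNat 4),(12,.ofNat 3),(13,.ofNat 2),(14,.negSucc 0),(16,.ofNat 3),(17,.negSucc 8),(18,.negSucc 8),(19,.ofNat 3),(20,.negSucc 4),(23,.ofNat 3),(24,.ofNat 6),(25,.ofNat 13),(27,.negSucc 0),(28,.negSucc 0)]
set_option maxHeartbeats 0 in
set_option maxRecDepth 100000 in
theorem hcb13 : chkCombW 3 25 rowsF [(24,(2 : ℤ))] 13 cb13 = true := by decide +kernel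
set_option maxRecDepth 100000 in
/-- A combination. -/
def cb14 : List (ℕ × ℤ) := [(1,.negSucc 0),(10,.negSucc 1),(11,.negSucc 1),(12,.negSucc 1),(18,.ofNat 1),(20,.ofNat 1),(24,.negSucc 1),(25,.negSucc 3)]
set_option maxHeartbeats 0 in
set_option maxRecDepth 100000 in
theorem hcb14 : chkCombW 3 25 rowsF [] 14 cb14 = true := by decide +kernel
set_option maxRecDepth 100000 in
/-- A combination. -/
def cb15 : List (ℕ × ℤ) := [(6,.negSucc 0),(9,.negSucc 4),(10,.negSucc 3)]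
set_option maxHeartbeats 0 in
set_option maxRecDepth 100000 in
theorem hcb15 : chkCombW 3 25 rowsF [] 15 cb15 = true := by decide +kernel
set_option maxRecDepth 100000 in
/-- A combination. -/
def cb16 : List (ℕ × ℤ) := [(7,.negSucc 0),(9,.negSucc 4),(10,.negSucc 4)]
set_option maxHeartbeats 0 in
set_option maxRecDepth 100000 in
theorem hcb16 : chkCombW 3 25 rowsF [] 16 cb16 = true := by decide +kernel
set_option maxRecDepth 100000 in
/-- A combination. -/
def cb17 : List (ℕ × ℤ) := [(8,.negSucc 0),(9,.negSucc 4),(10,.negSucc 3)]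
set_option maxHeartbeats 0 in
set_option maxRecDepth 100000 in
theorem hcb17 : chkCombW 3 25 rowsF [] 17 cb17 = true := by decide +kernel
set_option maxRecDepth 100000 in
/-- A combination. -/
def cb18 : List (ℕ × ℤ) := [(0,.negSucc 14),(1,.ofNat 9),(2,.negSucc 6),(3,.ofNat 1),(4,.ofNat 3),(5,.negSucc 0),(7,.ofNat 1),(9,.negSucc 1),(10,.ofNat 22),(11,.ofNat 2),(12,.ofNat 2),(13,.ofNat 1),(14,.negSucc 1),(16,.ofNat 3),(17,.negSucc 8),(18,.negSucc 7),(19,.ofNat 3),(20,.negSucc 4),(23,.ofNat 3),(24,.ofNat 8),(25,.ofNat 17),(26,.negSucc 0),(27,.negSucc 0),(28,.negSucc 0)]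
set_option maxHeartbeats 0 in
set_option maxRecDepth 100000 in
theorem hcb18 : chkCombW 3 25 rowsF [(24,(2 : ℤ))] 18 cb18 = true := by decide +kernel
set_option maxRecDepth 100000 in
/-- A combination. -/
def cb19 : List (ℕ × ℤ) := [(0,.negSucc 1),(1,.ofNat 1),(5,.negSucc 0),(9,.negSucc 3),(11,.negSucc 1),(12,.negSucc 1),(16,.ofNat 1),(17,.ofNat 1),(18,.negSucc 0),(21,.ofNat 1),(25,.negSucc 0)]
set_option maxHeartbeats 0 in
set_option maxRecDepth 100000 in
theorem hcb19 : chkCombW 3 25 rowsF [] 19 cb19 = true := by decide +kernel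
set_option maxRecDepth 100000 in
/-- A combination. -/
def cb20 : List (ℕ × ℤ) := [(0,.negSucc 1),(5,.negSucc 0),(9,.negSucc 3),(10,.negSucc 2),(11,.negSucc 0),(12,.negSucc 0),(26,.negSucc 0)]
set_option maxHeartbeats 0 in
set_option maxRecDepth 100000 in
theorem hcb20 : chkCombW 3 25 rowsF [] 20 cb20 = true := by decide +kernel
set_option maxRecDepth 100000 in
/-- A combination. -/
def cb21 : List (ℕ × ℤ) := []
set_option maxHeartbeats 0 in
set_option maxRecDepth 100000 in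
theorem hcb21 : chkCombW 3 25 rowsF [(21,(1 : ℤ))] 21 cb21 = true := by decide +kernel
set_option maxRecDepth 100000 in
/-- A combination. -/
def cb22 : List (ℕ × ℤ) := [(0,.negSucc 14),(1,.ofNat 7),(2,.negSucc 3),(3,.ofNat 1),(4,.ofNat 3),(5,.negSucc 0),(7,.ofNat 1),(9,.negSucc 1),(10,.ofNat 19),(11,.ofNat 2),(12,.ofNat 2),(13,.ofNat 1),(14,.negSucc 0),(16,.ofNat 3),(17,.negSucc 7),(18,.negSucc 7),(19,.ofNat 3),(20,.negSucc 4),(23,.ofNat 2),(24,.ofNat 6),(25,.ofNat 13),(26,.negSucc 0),(27,.negSucc 0),(28,.negSucc 0)]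
set_option maxHeartbeats 0 in
set_option maxRecDepth 100000 in
theorem hcb22 : chkCombW 3 25 rowsF [(24,(2 : ℤ))] 22 cb22 = true := by decide +kernel
set_option maxRecDepth 100000 in
/-- A combination. -/
def cb23 : List (ℕ × ℤ) := []
set_option maxHeartbeats 0 in
set_option maxRecDepth 100000 in
theorem hcb23 : chkCombW 3 25 rowsF [(23,(1 : ℤ))] 23 cb23 = true := by decide +kernel
set_option maxRecDepth 100000 in
/-- A combination. -/
def cb24 : List (ℕ × ℤ) := []
set_option maxHeartbeats 0 in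
set_option maxRecDepth 100000 in
theorem hcb24 : chkCombW 3 25 rowsF [(24,(1 : ℤ))] 24 cb24 = true := by decide +kernel
set_option maxRecDepth 100000 in
/-- A combination. -/
def cbO0 : List (ℕ × ℤ) := [(0,.negSucc 1),(1,.negSucc 15),(2,.negSucc 4),(3,.ofNat 3),(4,.negSucc 2),(5,.ofNat 4),(7,.negSucc 0),(9,.negSucc 8),(10,.negSucc 14),(11,.negSucc 4),(12,.negSucc 7),(14,.ofNat 2),(15,.negSucc 0),(16,.ofNat 1),(17,.ofNat 1),(19,.ofNat 1),(20,.ofNat 1),(21,.ofNat 1),(23,.ofNat 1),(24,.negSucc 7),(25,.negSucc 17),(26,.ofNat 6),(27,.ofNat 1),(28,.ofNat 1)]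
set_option maxHeartbeats 0 in
set_option maxRecDepth 100000 in
theorem hordW0 : chkCombW 3 25 rowsF [(24, 1 - ((4 : ℕ) : ℤ))] 24 cbO0 = true := by decide +kernel
set_option maxRecDepth 100000 in
/-- A combination. -/
def cbO1 : List (ℕ × ℤ) := [(1,.ofNat 1),(2,.negSucc 1),(3,.negSucc 1),(4,.ofNat 1),(5,.ofNat 2),(6,.negSucc 0),(8,.negSucc 0),(9,.negSucc 10),(10,.negSucc 3),(11,.negSucc 1),(12,.negSucc 2),(17,.negSucc 1),(18,.negSucc 0),(22,.negSucc 0),(23,.negSucc 0),(24,.negSucc 1),(25,.negSucc 3),(27,.negSucc 0)]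
set_option maxHeartbeats 0 in
set_option maxRecDepth 100000 in
theorem hordW1 : chkCombW 3 25 rowsF [(23, 1 - ((3 : ℕ) : ℤ))] 23 cbO1 = true := by decide +kernel
set_option maxRecDepth 100000 in
/-- A combination. -/
def cbO2 : List (ℕ × ℤ) := [(0,.negSucc 3),(1,.negSucc 2),(3,.negSucc 0),(9,.negSucc 11),(10,.negSucc 9),(11,.negSucc 2),(12,.negSucc 2),(18,.negSucc 0),(22,.negSucc 0),(23,.negSucc 0),(24,.negSucc 2),(25,.negSucc 5)]
set_option maxHeartbeats 0 in
set_option maxRecDepth 100000 in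
theorem hordW2 : chkCombW 3 25 rowsF [(21, 1 - ((3 : ℕ) : ℤ))] 21 cbO2 = true := by decide +kernel
theorem hcert : ∀ q, q < 25 → ∃ (W L : List (ℕ × ℤ)), chkCombW 3 25 rowsF W q L = true ∧ ∀ a ∈ W, a.1 ∈ ssL := by
  intro q hq
  interval_cases q
  · exact ⟨_, cb0, hcb0, by decide⟩
  · exact ⟨_, cb1, hcb1, by decide⟩
  · exact ⟨_, cb2, hcb2, by decide⟩
  · exact ⟨_, cb3, hcb3, by decide⟩
  · exact ⟨_, cb4, hcb4, by decide⟩
  · exact ⟨_, cb5, hcb5, by decide⟩
  · exact ⟨_, cb6, hcb6, by decide⟩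
  · exact ⟨_, cb7, hcb7, by decide⟩
  · exact ⟨_, cb8, hcb8, by decide⟩
  · exact ⟨_, cb9, hcb9, by decide⟩
  · exact ⟨_, cb10, hcb10, by decide⟩
  · exact ⟨_, cb11, hcb11, by decide⟩
  · exact ⟨_, cb12, hcb12, by decide⟩
  · exact ⟨_, cb13, hcb13, by decide⟩
  · exact ⟨_, cb14, hcb14, by decide⟩
  · exact ⟨_, cb15, hcb15, by decide⟩
  · exact ⟨_, cb16, hcb16, by decide⟩
  · exact ⟨_, cb17, hcb17, by decide⟩
  · exact ⟨_, cb18, hcb18, by decide⟩
  · exact ⟨_, cb19, hcb19, by decide⟩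
  · exact ⟨_, cb20, hcb20, by decide⟩
  · exact ⟨_, cb21, hcb21, by decide⟩
  · exact ⟨_, cb22, hcb22, by decide⟩
  · exact ⟨_, cb23, hcb23, by decide⟩
  · exact ⟨_, cb24, hcb24, by decide⟩

end Cfsg.Agent.Lib.KnownSimple.MultM.U43L
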