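import Cfsg.Agent.Lib.KnownSimple.MultM.U43L.Bound
import Cfsg.Agent.Lib.KnownSimple.MultM.U43L.NatD
import Cfsg.Agent.Lib.KnownSimple.MultC.GenQ
import Cfsg.Agent.Lib.KnownSimple.MultC.U43P

/-!
# The natural representation
-/

set_option autoImplicit false

namespace Cfsg.Agent.Lib.KnownSimple.MultM.U43L

open Cfsg Cfsg.Spor Cfsg.Agent.Lib.Compute Cfsg.Agent.Lib.KnownSimple.PE Cfsg.Agent.Lib.KnownSimple.Leech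
open Cfsg.Agent.Lib.KnownSimple Cfsg.Agent.Lib.KnownSimple.AutRigid Cfsg.Agent.Lib.KnownSimple.Pres
open Cfsg.Agent.Lib.KnownSimple.MultC


open Cfsg.Agent.Lib.KnownSimple.MultC.MatN Cfsg.Agent.Lib.KnownSimple.MultC.GenQ Matrix Cfsg.Agent.Lib.KnownSimple.MultC.U43P

abbrev d : ℕ := 5
abbrev N0 : ℕ := 280
theorem hP : IsPres d v (stdRels S) := hPs
/-- The table of the letters. -/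
noncomputable abbrev τN : ℕ → ℕ → ℕ := tauP d tn
set_option maxHeartbeats 0 in
set_option maxRecDepth 100000 in
theorem hCN : chkCoset τN d N0 = true := by decide +kernel
/-- The natural table. -/
noncomputable def CN : Coset d N0 := mkCoset τN hCN
set_option maxHeartbeats 0 in
theorem hok : ∀ r ∈ stdRels S, ∀ l ∈ r, l < 2 * d := words_of_chk (by decide +kernel)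
set_option maxHeartbeats 0 in
set_option maxRecDepth 100000 in
theorem hl0 : ∀ r ∈ stdRels S, ∀ i, i < N0 → actW CN.τ r i = i := loops_of_chk (by decide +kernel)
theorem ex0 : ∃ ρ : P →* Equiv.Perm (Fin N0), ∀ x, x < d → ρ (v x) = (CN.p x)⁻¹ := exists_rho hP CN hok hl0
/-- The natural representation. -/
noncomputable def ρ0 : P →* Equiv.Perm (Fin N0) := ex0.choose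
theorem hρ0 : ∀ x, x < d → ρ0 (v x) = (CN.p x)⁻¹ := ex0.choose_spec
set_option maxRecDepth 100000 in
/-- The root elements. -/
def RTL : List (List (List ℕ)) := [[[4,4,0,0],
  [5,7,0,0],
  [0,0,1,0],
  [0,0,0,1]],[[7,8,0,0],
  [7,4,0,0],
  [0,0,1,0],
  [0,0,0,1]],[[4,7,0,0],
  [8,7,0,0],
  [0,0,1,0],
  [0,0,0,1]],[[7,5,0,0],
  [4,4,0,0],
  [0,0,1,0],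
  [0,0,0,1]],[[4,5,0,0],
  [4,7,0,0],
  [0,0,1,0],
  [0,0,0,1]],[[7,7,0,0],
  [8,4,0,0],
  [0,0,1,0],
  [0,0,0,1]],[[4,8,0,0],
  [7,7,0,0],
  [0,0,1,0],
  [0,0,0,1]],[[7,4,0,0],
  [5,4,0,0],
  [0,0,1,0],
  [0,0,0,1]],[[4,3,3,0],
  [3,4,3,0],
  [3,3,4,0],
  [0,0,0,1]],[[7,6,6,0],
  [6,7,6,0],
  [6,6,7,0],
  [0,0,0,1]],[[4,6,3,0],
  [6,4,6,0],
  [3,6,4,0],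
  [0,0,0,1]],[[7,3,6,0],
  [3,7,3,0],
  [6,3,7,0],
  [0,0,0,1]],[[4,1,3,0],
  [2,4,2,0],
  [3,1,4,0],
  [0,0,0,1]],[[7,2,6,0],
  [1,7,1,0],
  [6,2,7,0],
  [0,0,0,1]],[[4,2,3,0],
  [1,4,1,0],
  [3,2,4,0],
  [0,0,0,1]],[[7,1,6,0],
  [2,7,2,0],
  [6,1,7,0],
  [0,0,0,1]],[[4,3,6,0],
  [3,4,6,0],
  [6,6,4,0],
  [0,0,0,1]],[[7,6,3,0],
  [6,7,3,0],
  [3,3,7,0],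
  [0,0,0,1]],[[4,6,6,0],
  [6,4,3,0],
  [6,3,4,0],
  [0,0,0,1]],[[7,3,3,0],
  [3,7,6,0],
  [3,6,7,0],
  [0,0,0,1]],[[4,1,6,0],
  [2,4,1,0],
  [6,2,4,0],
  [0,0,0,1]],[[7,2,3,0],
  [1,7,2,0],
  [3,1,7,0],
  [0,0,0,1]],[[4,2,6,0],
  [1,4,2,0],
  [6,1,4,0],
  [0,0,0,1]],[[7,1,3,0],
  [2,7,1,0],
  [3,2,7,0],
  [0,0,0,1]],[[4,3,1,0],
  [3,4,1,0],
  [2,2,4,0],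
  [0,0,0,1]],[[7,6,2,0],
  [6,7,2,0],
  [1,1,7,0],
  [0,0,0,1]],[[4,6,1,0],
  [6,4,2,0],
  [2,1,4,0],
  [0,0,0,1]],[[7,3,2,0],
  [3,7,1,0],
  [1,2,7,0],
  [0,0,0,1]],[[4,1,1,0],
  [2,4,3,0],
  [2,3,4,0],
  [0,0,0,1]],[[7,2,2,0],
  [1,7,6,0],
  [1,6,7,0],
  [0,0,0,1]],[[4,2,1,0],
  [1,4,6,0],
  [2,6,4,0],
  [0,0,0,1]],[[7,1,2,0],
  [2,7,3,0],
  [1,3,7,0],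
  [0,0,0,1]],[[4,0,4,0],
  [0,1,0,0],
  [5,0,7,0],
  [0,0,0,1]],[[7,0,8,0],
  [0,1,0,0],
  [7,0,4,0],
  [0,0,0,1]],[[1,0,0,0],
  [0,4,4,0],
  [0,5,7,0],
  [0,0,0,1]],[[1,0,0,0],
  [0,7,8,0],
  [0,7,4,0],
  [0,0,0,1]],[[4,0,7,0],
  [0,1,0,0],
  [8,0,7,0],
  [0,0,0,1]],[[7,0,5,0],
  [0,1,0,0],
  [4,0,4,0],
  [0,0,0,1]],[[1,0,0,0],
  [0,4,7,0],
  [0,8,7,0],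
  [0,0,0,1]],[[1,0,0,0],
  [0,7,5,0],
  [0,4,4,0],
  [0,0,0,1]],[[4,3,2,0],
  [3,4,2,0],
  [1,1,4,0],
  [0,0,0,1]],[[7,6,1,0],
  [6,7,1,0],
  [2,2,7,0],
  [0,0,0,1]],[[4,6,2,0],
  [6,4,1,0],
  [1,2,4,0],
  [0,0,0,1]],[[7,3,1,0],
  [3,7,2,0],
  [2,1,7,0],
  [0,0,0,1]],[[4,1,2,0],
  [2,4,6,0],
  [1,6,4,0],
  [0,0,0,1]],[[7,2,1,0],
  [1,7,3,0],
  [2,3,7,0],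
  [0,0,0,1]],[[4,2,2,0],
  [1,4,3,0],
  [1,3,4,0],
  [0,0,0,1]],[[7,1,1,0],
  [2,7,6,0],
  [2,6,7,0],
  [0,0,0,1]],[[4,0,5,0],
  [0,1,0,0],
  [4,0,7,0],
  [0,0,0,1]],[[7,0,7,0],
  [0,1,0,0],
  [8,0,4,0],
  [0,0,0,1]],[[1,0,0,0],
  [0,4,5,0],
  [0,4,7,0],
  [0,0,0,1]],[[1,0,0,0],
  [0,7,7,0],
  [0,8,4,0],
  [0,0,0,1]],[[4,0,8,0],
  [0,1,0,0],
  [7,0,7,0],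
  [0,0,0,1]],[[7,0,4,0],
  [0,1,0,0],
  [5,0,4,0],
  [0,0,0,1]],[[1,0,0,0],
  [0,4,8,0],
  [0,7,7,0],
  [0,0,0,1]],[[1,0,0,0],
  [0,7,4,0],
  [0,5,4,0],
  [0,0,0,1]],[[4,3,0,3],
  [3,4,0,3],
  [0,0,1,0],
  [3,3,0,4]],[[7,6,0,6],
  [6,7,0,6],
  [0,0,1,0],
  [6,6,0,7]],[[4,6,0,3],
  [6,4,0,6],
  [0,0,1,0],
  [3,6,0,4]],[[7,3,0,6],
  [3,7,0,3],
  [0,0,1,0],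
  [6,3,0,7]],[[4,1,0,3],
  [2,4,0,2],
  [0,0,1,0],
  [3,1,0,4]],[[7,2,0,6],
  [1,7,0,1],
  [0,0,1,0],
  [6,2,0,7]],[[4,2,0,3],
  [1,4,0,1],
  [0,0,1,0],
  [3,2,0,4]],[[7,1,0,6],
  [2,7,0,2],
  [0,0,1,0],
  [6,1,0,7]],[[4,0,3,3],
  [0,1,0,0],
  [3,0,4,3],
  [3,0,3,4]],[[7,0,6,6],
  [0,1,0,0],
  [6,0,7,6],
  [6,0,6,7]],[[1,0,0,0],
  [0,4,3,3],
  [0,3,4,3],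
  [0,3,3,4]],[[1,0,0,0],
  [0,7,6,6],
  [0,6,7,6],
  [0,6,6,7]],[[4,0,6,3],
  [0,1,0,0],
  [6,0,4,6],
  [3,0,6,4]],[[7,0,3,6],
  [0,1,0,0],
  [3,0,7,3],
  [6,0,3,7]],[[1,0,0,0],
  [0,4,6,3],
  [0,6,4,6],
  [0,3,6,4]],[[1,0,0,0],
  [0,7,3,6],
  [0,3,7,3],
  [0,6,3,7]],[[4,0,1,3],
  [0,1,0,0],
  [2,0,4,2],
  [3,0,1,4]],[[7,0,2,6],
  [0,1,0,0],
  [1,0,7,1],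
  [6,0,2,7]],[[1,0,0,0],
  [0,4,1,3],
  [0,2,4,2],
  [0,3,1,4]],[[1,0,0,0],
  [0,7,2,6],
  [0,1,7,1],
  [0,6,2,7]],[[4,4,4,3],
  [5,7,6,5],
  [5,6,7,5],
  [3,4,4,4]],[[7,8,8,6],
  [7,4,3,7],
  [7,3,4,7],
  [6,8,8,7]],[[4,7,4,3],
  [8,7,1,8],
  [5,2,7,5],
  [3,7,4,4]],[[7,5,8,6],
  [4,4,2,4],
  [7,1,4,7],
  [6,5,8,7]],[[4,5,4,3],
  [4,7,2,4],
  [5,1,7,5],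
  [3,5,4,4]],[[7,7,8,6],
  [8,4,1,8],
  [7,2,4,7],
  [6,7,8,7]],[[4,8,4,3],
  [7,7,3,7],
  [5,3,7,5],
  [3,8,4,4]],[[7,4,8,6],
  [5,4,6,5],
  [7,6,4,7],
  [6,4,8,7]],[[4,4,7,3],
  [5,7,2,5],
  [8,1,7,8],
  [3,4,7,4]],[[7,8,5,6],
  [7,4,1,7],
  [4,2,4,4],
  [6,8,5,7]],[[4,7,7,3],
  [8,7,6,8],
  [8,6,7,8],
  [3,7,7,4]],[[7,5,5,6],
  [4,4,3,4],
  [4,3,4,4],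
  [6,5,5,7]],[[4,5,7,3],
  [4,7,3,4],
  [8,3,7,8],
  [3,5,7,4]],[[7,7,5,6],
  [8,4,6,8],
  [4,6,4,4],
  [6,7,5,7]],[[4,8,7,3],
  [7,7,1,7],
  [8,2,7,8],
  [3,8,7,4]],[[7,4,5,6],
  [5,4,2,5],
  [4,1,4,4],
  [6,4,5,7]],[[4,0,2,3],
  [0,1,0,0],
  [1,0,4,1],
  [3,0,2,4]],[[7,0,1,6],
  [0,1,0,0],
  [2,0,7,2],
  [6,0,1,7]],[[1,0,0,0],
  [0,4,2,3],
  [0,1,4,1],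
  [0,3,2,4]],[[1,0,0,0],
  [0,7,1,6],
  [0,2,7,2],
  [0,6,1,7]],[[4,4,5,3],
  [5,7,1,5],
  [4,2,7,4],
  [3,4,5,4]],[[7,8,7,6],
  [7,4,2,7],
  [8,1,4,8],
  [6,8,7,7]],[[4,7,5,3],
  [8,7,3,8],
  [4,3,7,4],
  [3,7,5,4]],[[7,5,7,6],
  [4,4,6,4],
  [8,6,4,8],
  [6,5,7,7]],[[4,5,5,3],
  [4,7,6,4],
  [4,6,7,4],
  [3,5,5,4]],[[7,7,7,6],
  [8,4,3,8],
  [8,3,4,8],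
  [6,7,7,7]],[[4,8,5,3],
  [7,7,2,7],
  [4,1,7,4],
  [3,8,5,4]],[[7,4,7,6],
  [5,4,1,5],
  [8,2,4,8],
  [6,4,7,7]],[[4,4,8,3],
  [5,7,3,5],
  [7,3,7,7],
  [3,4,8,4]],[[7,8,4,6],
  [7,4,6,7],
  [5,6,4,5],
  [6,8,4,7]],[[4,7,8,3],
  [8,7,2,8],
  [7,1,7,7],
  [3,7,8,4]],[[7,5,4,6],
  [4,4,1,4],
  [5,2,4,5],
  [6,5,4,7]],[[4,5,8,3],
  [4,7,1,4],
  [7,2,7,7],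
  [3,5,8,4]],[[7,7,4,6],
  [8,4,2,8],
  [5,1,4,5],
  [6,7,4,7]],[[4,8,8,3],
  [7,7,6,7],
  [7,6,7,7],
  [3,8,8,4]],[[7,4,4,6],
  [5,4,3,5],
  [5,3,4,5],
  [6,4,4,7]],[[4,3,0,6],
  [3,4,0,6],
  [0,0,1,0],
  [6,6,0,4]],[[7,6,0,3],
  [6,7,0,3],
  [0,0,1,0],
  [3,3,0,7]],[[4,6,0,6],
  [6,4,0,3],
  [0,0,1,0],
  [6,3,0,4]],[[7,3,0,3],
  [3,7,0,6],
  [0,0,1,0],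
  [3,6,0,7]],[[4,1,0,6],
  [2,4,0,1],
  [0,0,1,0],
  [6,2,0,4]],[[7,2,0,3],
  [1,7,0,2],
  [0,0,1,0],
  [3,1,0,7]],[[4,2,0,6],
  [1,4,0,2],
  [0,0,1,0],
  [6,1,0,4]],[[7,1,0,3],
  [2,7,0,1],
  [0,0,1,0],
  [3,2,0,7]],[[4,0,3,6],
  [0,1,0,0],
  [3,0,4,6],
  [6,0,6,4]],[[7,0,6,3],
  [0,1,0,0],
  [6,0,7,3],
  [3,0,3,7]],[[1,0,0,0],
  [0,4,3,6],
  [0,3,4,6],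
  [0,6,6,4]],[[1,0,0,0],
  [0,7,6,3],
  [0,6,7,3],
  [0,3,3,7]],[[4,0,6,6],
  [0,1,0,0],
  [6,0,4,3],
  [6,0,3,4]],[[7,0,3,3],
  [0,1,0,0],
  [3,0,7,6],
  [3,0,6,7]],[[1,0,0,0],
  [0,4,6,6],
  [0,6,4,3],
  [0,6,3,4]],[[1,0,0,0],
  [0,7,3,3],
  [0,3,7,6],
  [0,3,6,7]],[[4,0,1,6],
  [0,1,0,0],
  [2,0,4,1],
  [6,0,2,4]],[[7,0,2,3],
  [0,1,0,0],
  [1,0,7,2],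
  [3,0,1,7]],[[1,0,0,0],
  [0,4,1,6],
  [0,2,4,1],
  [0,6,2,4]],[[1,0,0,0],
  [0,7,2,3],
  [0,1,7,2],
  [0,3,1,7]],[[4,4,4,6],
  [5,7,6,7],
  [5,6,7,7],
  [6,8,8,4]],[[7,8,8,3],
  [7,4,3,5],
  [7,3,4,5],
  [3,4,4,7]],[[4,7,4,6],
  [8,7,1,4],
  [5,2,7,7],
  [6,5,8,4]],[[7,5,8,3],
  [4,4,2,8],
  [7,1,4,5],
  [3,7,4,7]],[[4,5,4,6],
  [4,7,2,8],
  [5,1,7,7],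
  [6,7,8,4]],[[7,7,8,3],
  [8,4,1,4],
  [7,2,4,5],
  [3,5,4,7]],[[4,8,4,6],
  [7,7,3,5],
  [5,3,7,7],
  [6,4,8,4]],[[7,4,8,3],
  [5,4,6,7],
  [7,6,4,5],
  [3,8,4,7]],[[4,4,7,6],
  [5,7,2,7],
  [8,1,7,4],
  [6,8,5,4]],[[7,8,5,3],
  [7,4,1,5],
  [4,2,4,8],
  [3,4,7,7]],[[4,7,7,6],
  [8,7,6,4],
  [8,6,7,4],
  [6,5,5,4]],[[7,5,5,3],
  [4,4,3,8],
  [4,3,4,8],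
  [3,7,7,7]],[[4,5,7,6],
  [4,7,3,8],
  [8,3,7,4],
  [6,7,5,4]],[[7,7,5,3],
  [8,4,6,4],
  [4,6,4,8],
  [3,5,7,7]],[[4,8,7,6],
  [7,7,1,5],
  [8,2,7,4],
  [6,4,5,4]],[[7,4,5,3],
  [5,4,2,7],
  [4,1,4,8],
  [3,8,7,7]],[[4,0,2,6],
  [0,1,0,0],
  [1,0,4,2],
  [6,0,1,4]],[[7,0,1,3],
  [0,1,0,0],
  [2,0,7,1],
  [3,0,2,7]],[[1,0,0,0],
  [0,4,2,6],
  [0,1,4,2],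
  [0,6,1,4]],[[1,0,0,0],
  [0,7,1,3],
  [0,2,7,1],
  [0,3,2,7]],[[4,4,5,6],
  [5,7,1,7],
  [4,2,7,8],
  [6,8,7,4]],[[7,8,7,3],
  [7,4,2,5],
  [8,1,4,4],
  [3,4,5,7]],[[4,7,5,6],
  [8,7,3,4],
  [4,3,7,8],
  [6,5,7,4]],[[7,5,7,3],
  [4,4,6,8],
  [8,6,4,4],
  [3,7,5,7]],[[4,5,5,6],
  [4,7,6,8],
  [4,6,7,8],
  [6,7,7,4]],[[7,7,7,3],
  [8,4,3,4],
  [8,3,4,4],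
  [3,5,5,7]],[[4,8,5,6],
  [7,7,2,5],
  [4,1,7,8],
  [6,4,7,4]],[[7,4,7,3],
  [5,4,1,7],
  [8,2,4,4],
  [3,8,5,7]],[[4,4,8,6],
  [5,7,3,7],
  [7,3,7,5],
  [6,8,4,4]],[[7,8,4,3],
  [7,4,6,5],
  [5,6,4,7],
  [3,4,8,7]],[[4,7,8,6],
  [8,7,2,4],
  [7,1,7,5],
  [6,5,4,4]],[[7,5,4,3],
  [4,4,1,8],
  [5,2,4,7],
  [3,7,8,7]],[[4,5,8,6],
  [4,7,1,8],
  [7,2,7,5],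
  [6,7,4,4]],[[7,7,4,3],
  [8,4,2,4],
  [5,1,4,7],
  [3,5,8,7]],[[4,8,8,6],
  [7,7,6,5],
  [7,6,7,5],
  [6,4,4,4]],[[7,4,4,3],
  [5,4,3,7],
  [5,3,4,7],
  [3,8,8,7]],[[4,3,0,1],
  [3,4,0,1],
  [0,0,1,0],
  [2,2,0,4]],[[7,6,0,2],
  [6,7,0,2],
  [0,0,1,0],
  [1,1,0,7]],[[4,6,0,1],
  [6,4,0,2],
  [0,0,1,0],
  [2,1,0,4]],[[7,3,0,2],
  [3,7,0,1],
  [0,0,1,0],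
  [1,2,0,7]],[[4,1,0,1],
  [2,4,0,3],
  [0,0,1,0],
  [2,3,0,4]],[[7,2,0,2],
  [1,7,0,6],
  [0,0,1,0],
  [1,6,0,7]],[[4,2,0,1],
  [1,4,0,6],
  [0,0,1,0],
  [2,6,0,4]],[[7,1,0,2],
  [2,7,0,3],
  [0,0,1,0],
  [1,3,0,7]],[[4,0,3,1],
  [0,1,0,0],
  [3,0,4,1],
  [2,0,2,4]],[[7,0,6,2],
  [0,1,0,0],
  [6,0,7,2],
  [1,0,1,7]],[[1,0,0,0],
  [0,4,3,1],
  [0,3,4,1],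
  [0,2,2,4]],[[1,0,0,0],
  [0,7,6,2],
  [0,6,7,2],
  [0,1,1,7]],[[4,0,6,1],
  [0,1,0,0],
  [6,0,4,2],
  [2,0,1,4]],[[7,0,3,2],
  [0,1,0,0],
  [3,0,7,1],
  [1,0,2,7]],[[1,0,0,0],
  [0,4,6,1],
  [0,6,4,2],
  [0,2,1,4]],[[1,0,0,0],
  [0,7,3,2],
  [0,3,7,1],
  [0,1,2,7]],[[4,0,1,1],
  [0,1,0,0],
  [2,0,4,3],
  [2,0,3,4]],[[7,0,2,2],
  [0,1,0,0],
  [1,0,7,6],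
  [1,0,6,7]],[[1,0,0,0],
  [0,4,1,1],
  [0,2,4,3],
  [0,2,3,4]],[[1,0,0,0],
  [0,7,2,2],
  [0,1,7,6],
  [0,1,6,7]],[[4,4,4,1],
  [5,7,6,4],
  [5,6,7,4],
  [2,5,5,4]],[[7,8,8,2],
  [7,4,3,8],
  [7,3,4,8],
  [1,7,7,7]],[[4,7,4,1],
  [8,7,1,5],
  [5,2,7,4],
  [2,4,5,4]],[[7,5,8,2],
  [4,4,2,7],
  [7,1,4,8],
  [1,8,7,7]],[[4,5,4,1],
  [4,7,2,7],
  [5,1,7,4],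
  [2,8,5,4]],[[7,7,8,2],
  [8,4,1,5],
  [7,2,4,8],
  [1,4,7,7]],[[4,8,4,1],
  [7,7,3,8],
  [5,3,7,4],
  [2,7,5,4]],[[7,4,8,2],
  [5,4,6,4],
  [7,6,4,8],
  [1,5,7,7]],[[4,4,7,1],
  [5,7,2,4],
  [8,1,7,5],
  [2,5,4,4]],[[7,8,5,2],
  [7,4,1,8],
  [4,2,4,7],
  [1,7,8,7]],[[4,7,7,1],
  [8,7,6,5],
  [8,6,7,5],
  [2,4,4,4]],[[7,5,5,2],
  [4,4,3,7],
  [4,3,4,7],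
  [1,8,8,7]],[[4,5,7,1],
  [4,7,3,7],
  [8,3,7,5],
  [2,8,4,4]],[[7,7,5,2],
  [8,4,6,5],
  [4,6,4,7],
  [1,4,8,7]],[[4,8,7,1],
  [7,7,1,8],
  [8,2,7,5],
  [2,7,4,4]],[[7,4,5,2],
  [5,4,2,4],
  [4,1,4,7],
  [1,5,8,7]],[[4,0,2,1],
  [0,1,0,0],
  [1,0,4,6],
  [2,0,6,4]],[[7,0,1,2],
  [0,1,0,0],
  [2,0,7,3],
  [1,0,3,7]],[[1,0,0,0],
  [0,4,2,1],
  [0,1,4,6],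
  [0,2,6,4]],[[1,0,0,0],
  [0,7,1,2],
  [0,2,7,3],
  [0,1,3,7]],[[4,4,5,1],
  [5,7,1,4],
  [4,2,7,7],
  [2,5,8,4]],[[7,8,7,2],
  [7,4,2,8],
  [8,1,4,5],
  [1,7,4,7]],[[4,7,5,1],
  [8,7,3,5],
  [4,3,7,7],
  [2,4,8,4]],[[7,5,7,2],
  [4,4,6,7],
  [8,6,4,5],
  [1,8,4,7]],[[4,5,5,1],
  [4,7,6,7],
  [4,6,7,7],
  [2,8,8,4]],[[7,7,7,2],
  [8,4,3,5],
  [8,3,4,5],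
  [1,4,4,7]],[[4,8,5,1],
  [7,7,2,8],
  [4,1,7,7],
  [2,7,8,4]],[[7,4,7,2],
  [5,4,1,4],
  [8,2,4,5],
  [1,5,4,7]],[[4,4,8,1],
  [5,7,3,4],
  [7,3,7,8],
  [2,5,7,4]],[[7,8,4,2],
  [7,4,6,8],
  [5,6,4,4],
  [1,7,5,7]],[[4,7,8,1],
  [8,7,2,5],
  [7,1,7,8],
  [2,4,7,4]],[[7,5,4,2],
  [4,4,1,7],
  [5,2,4,4],
  [1,8,5,7]],[[4,5,8,1],
  [4,7,1,7],
  [7,2,7,8],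
  [2,8,7,4]],[[7,7,4,2],
  [8,4,2,5],
  [5,1,4,4],
  [1,4,5,7]],[[4,8,8,1],
  [7,7,6,8],
  [7,6,7,8],
  [2,7,7,4]],[[7,4,4,2],
  [5,4,3,4],
  [5,3,4,4],
  [1,5,5,7]],[[4,0,0,4],
  [0,1,0,0],
  [0,0,1,0],
  [5,0,0,7]],[[7,0,0,8],
  [0,1,0,0],
  [0,0,1,0],
  [7,0,0,4]],[[1,0,0,0],
  [0,4,0,4],
  [0,0,1,0],
  [0,5,0,7]],[[1,0,0,0],
  [0,7,0,8],
  [0,0,1,0],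
  [0,7,0,4]],[[1,0,0,0],
  [0,1,0,0],
  [0,0,4,4],
  [0,0,5,7]],[[1,0,0,0],
  [0,1,0,0],
  [0,0,7,8],
  [0,0,7,4]],[[4,4,3,4],
  [5,7,5,6],
  [3,4,4,4],
  [5,6,5,7]],[[7,8,6,8],
  [7,4,7,3],
  [6,8,7,8],
  [7,3,7,4]],[[4,7,3,4],
  [8,7,8,1],
  [3,7,4,4],
  [5,2,5,7]],[[7,5,6,8],
  [4,4,4,2],
  [6,5,7,8],
  [7,1,7,4]],[[4,5,3,4],
  [4,7,4,2],
  [3,5,4,4],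
  [5,1,5,7]],[[7,7,6,8],
  [8,4,8,1],
  [6,7,7,8],
  [7,2,7,4]],[[4,8,3,4],
  [7,7,7,3],
  [3,8,4,4],
  [5,3,5,7]],[[7,4,6,8],
  [5,4,5,6],
  [6,4,7,8],
  [7,6,7,4]],[[4,4,6,4],
  [5,7,7,6],
  [6,8,4,8],
  [5,6,7,7]],[[7,8,3,8],
  [7,4,5,3],
  [3,4,7,4],
  [7,3,5,4]],[[4,7,6,4],
  [8,7,4,1],
  [6,5,4,8],
  [5,2,7,7]],[[7,5,3,8],
  [4,4,8,2],
  [3,7,7,4],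
  [7,1,5,4]],[[4,5,6,4],
  [4,7,8,2],
  [6,7,4,8],
  [5,1,7,7]],[[7,7,3,8],
  [8,4,4,1],
  [3,5,7,4],
  [7,2,5,4]],[[4,8,6,4],
  [7,7,5,3],
  [6,4,4,8],
  [5,3,7,7]],[[7,4,3,8],
  [5,4,7,6],
  [3,8,7,4],
  [7,6,5,4]],[[4,4,1,4],
  [5,7,4,6],
  [2,5,4,5],
  [5,6,4,7]],[[7,8,2,8],
  [7,4,8,3],
  [1,7,7,7],
  [7,3,8,4]],[[4,7,1,4],
  [8,7,5,1],
  [2,4,4,5],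
  [5,2,4,7]],[[7,5,2,8],
  [4,4,7,2],
  [1,8,7,7],
  [7,1,8,4]],[[4,5,1,4],
  [4,7,7,2],
  [2,8,4,5],
  [5,1,4,7]],[[7,7,2,8],
  [8,4,5,1],
  [1,4,7,7],
  [7,2,8,4]],[[4,8,1,4],
  [7,7,8,3],
  [2,7,4,5],
  [5,3,4,7]],[[7,4,2,8],
  [5,4,4,6],
  [1,5,7,7],
  [7,6,8,4]],[[4,3,4,4],
  [3,4,4,4],
  [5,5,7,6],
  [5,5,6,7]],[[7,6,8,8],
  [6,7,8,8],
  [7,7,4,3],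
  [7,7,3,4]],[[4,6,4,4],
  [6,4,8,8],
  [5,7,7,6],
  [5,7,6,7]],[[7,3,8,8],
  [3,7,4,4],
  [7,5,4,3],
  [7,5,3,4]],[[4,1,4,4],
  [2,4,5,5],
  [5,4,7,6],
  [5,4,6,7]],[[7,2,8,8],
  [1,7,7,7],
  [7,8,4,3],
  [7,8,3,4]],[[4,2,4,4],
  [1,4,7,7],
  [5,8,7,6],
  [5,8,6,7]],[[7,1,8,8],
  [2,7,5,5],
  [7,4,4,3],
  [7,4,3,4]],[[4,3,7,4],
  [3,4,7,4],
  [8,8,7,1],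
  [5,5,2,7]],[[7,6,5,8],
  [6,7,5,8],
  [4,4,4,2],
  [7,7,1,4]],[[4,6,7,4],
  [6,4,5,8],
  [8,4,7,1],
  [5,7,2,7]],[[7,3,5,8],
  [3,7,7,4],
  [4,8,4,2],
  [7,5,1,4]],[[4,1,7,4],
  [2,4,4,5],
  [8,5,7,1],
  [5,4,2,7]],[[7,2,5,8],
  [1,7,8,7],
  [4,7,4,2],
  [7,8,1,4]],[[4,2,7,4],
  [1,4,8,7],
  [8,7,7,1],
  [5,8,2,7]],[[7,1,5,8],
  [2,7,4,5],
  [4,5,4,2],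
  [7,4,1,4]],[[4,4,2,4],
  [5,7,8,6],
  [1,7,4,7],
  [5,6,8,7]],[[7,8,1,8],
  [7,4,4,3],
  [2,5,7,5],
  [7,3,4,4]],[[4,7,2,4],
  [8,7,7,1],
  [1,8,4,7],
  [5,2,8,7]],[[7,5,1,8],
  [4,4,5,2],
  [2,4,7,5],
  [7,1,4,4]],[[4,5,2,4],
  [4,7,5,2],
  [1,4,4,7],
  [5,1,8,7]],[[7,7,1,8],
  [8,4,7,1],
  [2,8,7,5],
  [7,2,4,4]],[[4,8,2,4],
  [7,7,4,3],
  [1,5,4,7],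
  [5,3,8,7]],[[7,4,1,8],
  [5,4,8,6],
  [2,7,7,5],
  [7,6,4,4]],[[4,3,5,4],
  [3,4,5,4],
  [4,4,7,2],
  [5,5,1,7]],[[7,6,7,8],
  [6,7,7,8],
  [8,8,4,1],
  [7,7,2,4]],[[4,6,5,4],
  [6,4,7,8],
  [4,8,7,2],
  [5,7,1,7]],[[7,3,7,8],
  [3,7,5,4],
  [8,4,4,1],
  [7,5,2,4]],[[4,1,5,4],
  [2,4,8,5],
  [4,7,7,2],
  [5,4,1,7]],[[7,2,7,8],
  [1,7,4,7],
  [8,5,4,1],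
  [7,8,2,4]],[[4,2,5,4],
  [1,4,4,7],
  [4,5,7,2],
  [5,8,1,7]],[[7,1,7,8],
  [2,7,8,5],
  [8,7,4,1],
  [7,4,2,4]],[[4,3,8,4],
  [3,4,8,4],
  [7,7,7,3],
  [5,5,3,7]],[[7,6,4,8],
  [6,7,4,8],
  [5,5,4,6],
  [7,7,6,4]],[[4,6,8,4],
  [6,4,4,8],
  [7,5,7,3],
  [5,7,3,7]],[[7,3,4,8],
  [3,7,8,4],
  [5,7,4,6],
  [7,5,6,4]],[[4,1,8,4],
  [2,4,7,5],
  [7,8,7,3],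
  [5,4,3,7]],[[7,2,4,8],
  [1,7,5,7],
  [5,4,4,6],
  [7,8,6,4]],[[4,2,8,4],
  [1,4,5,7],
  [7,4,7,3],
  [5,8,3,7]],[[7,1,4,8],
  [2,7,7,5],
  [5,8,4,6],
  [7,4,6,4]],[[4,0,0,7],
  [0,1,0,0],
  [0,0,1,0],
  [8,0,0,7]],[[7,0,0,5],
  [0,1,0,0],
  [0,0,1,0],
  [4,0,0,4]],[[1,0,0,0],
  [0,4,0,7],
  [0,0,1,0],
  [0,8,0,7]],[[1,0,0,0],
  [0,7,0,5],
  [0,0,1,0],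
  [0,4,0,4]],[[1,0,0,0],
  [0,1,0,0],
  [0,0,4,7],
  [0,0,8,7]],[[1,0,0,0],
  [0,1,0,0],
  [0,0,7,5],
  [0,0,4,4]],[[4,4,3,7],
  [5,7,5,2],
  [3,4,4,7],
  [8,1,8,7]],[[7,8,6,5],
  [7,4,7,1],
  [6,8,7,5],
  [4,2,4,4]],[[4,7,3,7],
  [8,7,8,6],
  [3,7,4,7],
  [8,6,8,7]],[[7,5,6,5],
  [4,4,4,3],
  [6,5,7,5],
  [4,3,4,4]],[[4,5,3,7],
  [4,7,4,3],
  [3,5,4,7],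
  [8,3,8,7]],[[7,7,6,5],
  [8,4,8,6],
  [6,7,7,5],
  [4,6,4,4]],[[4,8,3,7],
  [7,7,7,1],
  [3,8,4,7],
  [8,2,8,7]],[[7,4,6,5],
  [5,4,5,2],
  [6,4,7,5],
  [4,1,4,4]],[[4,4,6,7],
  [5,7,7,2],
  [6,8,4,5],
  [8,1,4,7]],[[7,8,3,5],
  [7,4,5,1],
  [3,4,7,7],
  [4,2,8,4]],[[4,7,6,7],
  [8,7,4,6],
  [6,5,4,5],
  [8,6,4,7]],[[7,5,3,5],
  [4,4,8,3],
  [3,7,7,7],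
  [4,3,8,4]],[[4,5,6,7],
  [4,7,8,3],
  [6,7,4,5],
  [8,3,4,7]],[[7,7,3,5],
  [8,4,4,6],
  [3,5,7,7],
  [4,6,8,4]],[[4,8,6,7],
  [7,7,5,1],
  [6,4,4,5],
  [8,2,4,7]],[[7,4,3,5],
  [5,4,7,2],
  [3,8,7,7],
  [4,1,8,4]],[[4,4,1,7],
  [5,7,4,2],
  [2,5,4,4],
  [8,1,5,7]],[[7,8,2,5],
  [7,4,8,1],
  [1,7,7,8],
  [4,2,7,4]],[[4,7,1,7],
  [8,7,5,6],
  [2,4,4,4],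
  [8,6,5,7]],[[7,5,2,5],
  [4,4,7,3],
  [1,8,7,8],
  [4,3,7,4]],[[4,5,1,7],
  [4,7,7,3],
  [2,8,4,4],
  [8,3,5,7]],[[7,7,2,5],
  [8,4,5,6],
  [1,4,7,8],
  [4,6,7,4]],[[4,8,1,7],
  [7,7,8,1],
  [2,7,4,4],
  [8,2,5,7]],[[7,4,2,5],
  [5,4,4,2],
  [1,5,7,8],
  [4,1,7,4]],[[4,3,4,7],
  [3,4,4,7],
  [5,5,7,2],
  [8,8,1,7]],[[7,6,8,5],
  [6,7,8,5],
  [7,7,4,1],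
  [4,4,2,4]],[[4,6,4,7],
  [6,4,8,5],
  [5,7,7,2],
  [8,4,1,7]],[[7,3,8,5],
  [3,7,4,7],
  [7,5,4,1],
  [4,8,2,4]],[[4,1,4,7],
  [2,4,5,4],
  [5,4,7,2],
  [8,5,1,7]],[[7,2,8,5],
  [1,7,7,8],
  [7,8,4,1],
  [4,7,2,4]],[[4,2,4,7],
  [1,4,7,8],
  [5,8,7,2],
  [8,7,1,7]],[[7,1,8,5],
  [2,7,5,4],
  [7,4,4,1],
  [4,5,2,4]],[[4,3,7,7],
  [3,4,7,7],
  [8,8,7,6],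
  [8,8,6,7]],[[7,6,5,5],
  [6,7,5,5],
  [4,4,4,3],
  [4,4,3,4]],[[4,6,7,7],
  [6,4,5,5],
  [8,4,7,6],
  [8,4,6,7]],[[7,3,5,5],
  [3,7,7,7],
  [4,8,4,3],
  [4,8,3,4]],[[4,1,7,7],
  [2,4,4,4],
  [8,5,7,6],
  [8,5,6,7]],[[7,2,5,5],
  [1,7,8,8],
  [4,7,4,3],
  [4,7,3,4]],[[4,2,7,7],
  [1,4,8,8],
  [8,7,7,6],
  [8,7,6,7]],[[7,1,5,5],
  [2,7,4,4],
  [4,5,4,3],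
  [4,5,3,4]],[[4,4,2,7],
  [5,7,8,2],
  [1,7,4,8],
  [8,1,7,7]],[[7,8,1,5],
  [7,4,4,1],
  [2,5,7,4],
  [4,2,5,4]],[[4,7,2,7],
  [8,7,7,6],
  [1,8,4,8],
  [8,6,7,7]],[[7,5,1,5],
  [4,4,5,3],
  [2,4,7,4],
  [4,3,5,4]],[[4,5,2,7],
  [4,7,5,3],
  [1,4,4,8],
  [8,3,7,7]],[[7,7,1,5],
  [8,4,7,6],
  [2,8,7,4],
  [4,6,5,4]],[[4,8,2,7],
  [7,7,4,1],
  [1,5,4,8],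
  [8,2,7,7]],[[7,4,1,5],
  [5,4,8,2],
  [2,7,7,4],
  [4,1,5,4]],[[4,3,5,7],
  [3,4,5,7],
  [4,4,7,3],
  [8,8,3,7]],[[7,6,7,5],
  [6,7,7,5],
  [8,8,4,6],
  [4,4,6,4]],[[4,6,5,7],
  [6,4,7,5],
  [4,8,7,3],
  [8,4,3,7]],[[7,3,7,5],
  [3,7,5,7],
  [8,4,4,6],
  [4,8,6,4]],[[4,1,5,7],
  [2,4,8,4],
  [4,7,7,3],
  [8,5,3,7]],[[7,2,7,5],
  [1,7,4,8],
  [8,5,4,6],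
  [4,7,6,4]],[[4,2,5,7],
  [1,4,4,8],
  [4,5,7,3],
  [8,7,3,7]],[[7,1,7,5],
  [2,7,8,4],
  [8,7,4,6],
  [4,5,6,4]],[[4,3,8,7],
  [3,4,8,7],
  [7,7,7,1],
  [8,8,2,7]],[[7,6,4,5],
  [6,7,4,5],
  [5,5,4,2],
  [4,4,1,4]],[[4,6,8,7],
  [6,4,4,5],
  [7,5,7,1],
  [8,4,2,7]],[[7,3,4,5],
  [3,7,8,7],
  [5,7,4,2],
  [4,8,1,4]],[[4,1,8,7],
  [2,4,7,4],
  [7,8,7,1],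
  [8,5,2,7]],[[7,2,4,5],
  [1,7,5,8],
  [5,4,4,2],
  [4,7,1,4]],[[4,2,8,7],
  [1,4,5,8],
  [7,4,7,1],
  [8,7,2,7]],[[7,1,4,5],
  [2,7,7,4],
  [5,8,4,2],
  [4,5,1,4]],[[4,3,0,2],
  [3,4,0,2],
  [0,0,1,0],
  [1,1,0,4]],[[7,6,0,1],
  [6,7,0,1],
  [0,0,1,0],
  [2,2,0,7]],[[4,6,0,2],
  [6,4,0,1],
  [0,0,1,0],
  [1,2,0,4]],[[7,3,0,1],
  [3,7,0,2],
  [0,0,1,0],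
  [2,1,0,7]],[[4,1,0,2],
  [2,4,0,6],
  [0,0,1,0],
  [1,6,0,4]],[[7,2,0,1],
  [1,7,0,3],
  [0,0,1,0],
  [2,3,0,7]],[[4,2,0,2],
  [1,4,0,3],
  [0,0,1,0],
  [1,3,0,4]],[[7,1,0,1],
  [2,7,0,6],
  [0,0,1,0],
  [2,6,0,7]],[[4,0,3,2],
  [0,1,0,0],
  [3,0,4,2],
  [1,0,1,4]],[[7,0,6,1],
  [0,1,0,0],
  [6,0,7,1],
  [2,0,2,7]],[[1,0,0,0],
  [0,4,3,2],
  [0,3,4,2],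
  [0,1,1,4]],[[1,0,0,0],
  [0,7,6,1],
  [0,6,7,1],
  [0,2,2,7]],[[4,0,6,2],
  [0,1,0,0],
  [6,0,4,1],
  [1,0,2,4]],[[7,0,3,1],
  [0,1,0,0],
  [3,0,7,2],
  [2,0,1,7]],[[1,0,0,0],
  [0,4,6,2],
  [0,6,4,1],
  [0,1,2,4]],[[1,0,0,0],
  [0,7,3,1],
  [0,3,7,2],
  [0,2,1,7]],[[4,0,1,2],
  [0,1,0,0],
  [2,0,4,6],
  [1,0,6,4]],[[7,0,2,1],
  [0,1,0,0],
  [1,0,7,3],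
  [2,0,3,7]],[[1,0,0,0],
  [0,4,1,2],
  [0,2,4,6],
  [0,1,6,4]],[[1,0,0,0],
  [0,7,2,1],
  [0,1,7,3],
  [0,2,3,7]],[[4,4,4,2],
  [5,7,6,8],
  [5,6,7,8],
  [1,7,7,4]],[[7,8,8,1],
  [7,4,3,4],
  [7,3,4,4],
  [2,5,5,7]],[[4,7,4,2],
  [8,7,1,7],
  [5,2,7,8],
  [1,8,7,4]],[[7,5,8,1],
  [4,4,2,5],
  [7,1,4,4],
  [2,4,5,7]],[[4,5,4,2],
  [4,7,2,5],
  [5,1,7,8],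
  [1,4,7,4]],[[7,7,8,1],
  [8,4,1,7],
  [7,2,4,4],
  [2,8,5,7]],[[4,8,4,2],
  [7,7,3,4],
  [5,3,7,8],
  [1,5,7,4]],[[7,4,8,1],
  [5,4,6,8],
  [7,6,4,4],
  [2,7,5,7]],[[4,4,7,2],
  [5,7,2,8],
  [8,1,7,7],
  [1,7,8,4]],[[7,8,5,1],
  [7,4,1,4],
  [4,2,4,5],
  [2,5,4,7]],[[4,7,7,2],
  [8,7,6,7],
  [8,6,7,7],
  [1,8,8,4]],[[7,5,5,1],
  [4,4,3,5],
  [4,3,4,5],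
  [2,4,4,7]],[[4,5,7,2],
  [4,7,3,5],
  [8,3,7,7],
  [1,4,8,4]],[[7,7,5,1],
  [8,4,6,7],
  [4,6,4,5],
  [2,8,4,7]],[[4,8,7,2],
  [7,7,1,4],
  [8,2,7,7],
  [1,5,8,4]],[[7,4,5,1],
  [5,4,2,8],
  [4,1,4,5],
  [2,7,4,7]],[[4,0,2,2],
  [0,1,0,0],
  [1,0,4,3],
  [1,0,3,4]],[[7,0,1,1],
  [0,1,0,0],
  [2,0,7,6],
  [2,0,6,7]],[[1,0,0,0],
  [0,4,2,2],
  [0,1,4,3],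
  [0,1,3,4]],[[1,0,0,0],
  [0,7,1,1],
  [0,2,7,6],
  [0,2,6,7]],[[4,4,5,2],
  [5,7,1,8],
  [4,2,7,5],
  [1,7,4,4]],[[7,8,7,1],
  [7,4,2,4],
  [8,1,4,7],
  [2,5,8,7]],[[4,7,5,2],
  [8,7,3,7],
  [4,3,7,5],
  [1,8,4,4]],[[7,5,7,1],
  [4,4,6,5],
  [8,6,4,7],
  [2,4,8,7]],[[4,5,5,2],
  [4,7,6,5],
  [4,6,7,5],
  [1,4,4,4]],[[7,7,7,1],
  [8,4,3,7],
  [8,3,4,7],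
  [2,8,8,7]],[[4,8,5,2],
  [7,7,2,4],
  [4,1,7,5],
  [1,5,4,4]],[[7,4,7,1],
  [5,4,1,8],
  [8,2,4,7],
  [2,7,8,7]],[[4,4,8,2],
  [5,7,3,8],
  [7,3,7,4],
  [1,7,5,4]],[[7,8,4,1],
  [7,4,6,4],
  [5,6,4,8],
  [2,5,7,7]],[[4,7,8,2],
  [8,7,2,7],
  [7,1,7,4],
  [1,8,5,4]],[[7,5,4,1],
  [4,4,1,5],
  [5,2,4,8],
  [2,4,7,7]],[[4,5,8,2],
  [4,7,1,5],
  [7,2,7,4],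
  [1,4,5,4]],[[7,7,4,1],
  [8,4,2,7],
  [5,1,4,8],
  [2,8,7,7]],[[4,8,8,2],
  [7,7,6,4],
  [7,6,7,4],
  [1,5,5,4]],[[7,4,4,1],
  [5,4,3,8],
  [5,3,4,8],
  [2,7,7,7]],[[4,0,0,5],
  [0,1,0,0],
  [0,0,1,0],
  [4,0,0,7]],[[7,0,0,7],
  [0,1,0,0],
  [0,0,1,0],
  [8,0,0,4]],[[1,0,0,0],
  [0,4,0,5],
  [0,0,1,0],
  [0,4,0,7]],[[1,0,0,0],
  [0,7,0,7],
  [0,0,1,0],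
  [0,8,0,4]],[[1,0,0,0],
  [0,1,0,0],
  [0,0,4,5],
  [0,0,4,7]],[[1,0,0,0],
  [0,1,0,0],
  [0,0,7,7],
  [0,0,8,4]],[[4,4,3,5],
  [5,7,5,1],
  [3,4,4,5],
  [4,2,4,7]],[[7,8,6,7],
  [7,4,7,2],
  [6,8,7,7],
  [8,1,8,4]],[[4,7,3,5],
  [8,7,8,3],
  [3,7,4,5],
  [4,3,4,7]],[[7,5,6,7],
  [4,4,4,6],
  [6,5,7,7],
  [8,6,8,4]],[[4,5,3,5],
  [4,7,4,6],
  [3,5,4,5],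
  [4,6,4,7]],[[7,7,6,7],
  [8,4,8,3],
  [6,7,7,7],
  [8,3,8,4]],[[4,8,3,5],
  [7,7,7,2],
  [3,8,4,5],
  [4,1,4,7]],[[7,4,6,7],
  [5,4,5,1],
  [6,4,7,7],
  [8,2,8,4]],[[4,4,6,5],
  [5,7,7,1],
  [6,8,4,7],
  [4,2,8,7]],[[7,8,3,7],
  [7,4,5,2],
  [3,4,7,5],
  [8,1,4,4]],[[4,7,6,5],
  [8,7,4,3],
  [6,5,4,7],
  [4,3,8,7]],[[7,5,3,7],
  [4,4,8,6],
  [3,7,7,5],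
  [8,6,4,4]],[[4,5,6,5],
  [4,7,8,6],
  [6,7,4,7],
  [4,6,8,7]],[[7,7,3,7],
  [8,4,4,3],
  [3,5,7,5],
  [8,3,4,4]],[[4,8,6,5],
  [7,7,5,2],
  [6,4,4,7],
  [4,1,8,7]],[[7,4,3,7],
  [5,4,7,1],
  [3,8,7,5],
  [8,2,4,4]],[[4,4,1,5],
  [5,7,4,1],
  [2,5,4,8],
  [4,2,7,7]],[[7,8,2,7],
  [7,4,8,2],
  [1,7,7,4],
  [8,1,5,4]],[[4,7,1,5],
  [8,7,5,3],
  [2,4,4,8],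
  [4,3,7,7]],[[7,5,2,7],
  [4,4,7,6],
  [1,8,7,4],
  [8,6,5,4]],[[4,5,1,5],
  [4,7,7,6],
  [2,8,4,8],
  [4,6,7,7]],[[7,7,2,7],
  [8,4,5,3],
  [1,4,7,4],
  [8,3,5,4]],[[4,8,1,5],
  [7,7,8,2],
  [2,7,4,8],
  [4,1,7,7]],[[7,4,2,7],
  [5,4,4,1],
  [1,5,7,4],
  [8,2,5,4]],[[4,3,4,5],
  [3,4,4,5],
  [5,5,7,1],
  [4,4,2,7]],[[7,6,8,7],
  [6,7,8,7],
  [7,7,4,2],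
  [8,8,1,4]],[[4,6,4,5],
  [6,4,8,7],
  [5,7,7,1],
  [4,8,2,7]],[[7,3,8,7],
  [3,7,4,5],
  [7,5,4,2],
  [8,4,1,4]],[[4,1,4,5],
  [2,4,5,8],
  [5,4,7,1],
  [4,7,2,7]],[[7,2,8,7],
  [1,7,7,4],
  [7,8,4,2],
  [8,5,1,4]],[[4,2,4,5],
  [1,4,7,4],
  [5,8,7,1],
  [4,5,2,7]],[[7,1,8,7],
  [2,7,5,8],
  [7,4,4,2],
  [8,7,1,4]],[[4,3,7,5],
  [3,4,7,5],
  [8,8,7,3],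
  [4,4,3,7]],[[7,6,5,7],
  [6,7,5,7],
  [4,4,4,6],
  [8,8,6,4]],[[4,6,7,5],
  [6,4,5,7],
  [8,4,7,3],
  [4,8,3,7]],[[7,3,5,7],
  [3,7,7,5],
  [4,8,4,6],
  [8,4,6,4]],[[4,1,7,5],
  [2,4,4,8],
  [8,5,7,3],
  [4,7,3,7]],[[7,2,5,7],
  [1,7,8,4],
  [4,7,4,6],
  [8,5,6,4]],[[4,2,7,5],
  [1,4,8,4],
  [8,7,7,3],
  [4,5,3,7]],[[7,1,5,7],
  [2,7,4,8],
  [4,5,4,6],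
  [8,7,6,4]],[[4,4,2,5],
  [5,7,8,1],
  [1,7,4,4],
  [4,2,5,7]],[[7,8,1,7],
  [7,4,4,2],
  [2,5,7,8],
  [8,1,7,4]],[[4,7,2,5],
  [8,7,7,3],
  [1,8,4,4],
  [4,3,5,7]],[[7,5,1,7],
  [4,4,5,6],
  [2,4,7,8],
  [8,6,7,4]],[[4,5,2,5],
  [4,7,5,6],
  [1,4,4,4],
  [4,6,5,7]],[[7,7,1,7],
  [8,4,7,3],
  [2,8,7,8],
  [8,3,7,4]],[[4,8,2,5],
  [7,7,4,2],
  [1,5,4,4],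
  [4,1,5,7]],[[7,4,1,7],
  [5,4,8,1],
  [2,7,7,8],
  [8,2,7,4]],[[4,3,5,5],
  [3,4,5,5],
  [4,4,7,6],
  [4,4,6,7]],[[7,6,7,7],
  [6,7,7,7],
  [8,8,4,3],
  [8,8,3,4]],[[4,6,5,5],
  [6,4,7,7],
  [4,8,7,6],
  [4,8,6,7]],[[7,3,7,7],
  [3,7,5,5],
  [8,4,4,3],
  [8,4,3,4]],[[4,1,5,5],
  [2,4,8,8],
  [4,7,7,6],
  [4,7,6,7]],[[7,2,7,7],
  [1,7,4,4],
  [8,5,4,3],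
  [8,5,3,4]],[[4,2,5,5],
  [1,4,4,4],
  [4,5,7,6],
  [4,5,6,7]],[[7,1,7,7],
  [2,7,8,8],
  [8,7,4,3],
  [8,7,3,4]],[[4,3,8,5],
  [3,4,8,5],
  [7,7,7,2],
  [4,4,1,7]],[[7,6,4,7],
  [6,7,4,7],
  [5,5,4,1],
  [8,8,2,4]],[[4,6,8,5],
  [6,4,4,7],
  [7,5,7,2],
  [4,8,1,7]],[[7,3,4,7],
  [3,7,8,5],
  [5,7,4,1],
  [8,4,2,4]],[[4,1,8,5],
  [2,4,7,8],
  [7,8,7,2],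
  [4,7,1,7]],[[7,2,4,7],
  [1,7,5,4],
  [5,4,4,1],
  [8,5,2,4]],[[4,2,8,5],
  [1,4,5,4],
  [7,4,7,2],
  [4,5,1,7]],[[7,1,4,7],
  [2,7,7,8],
  [5,8,4,1],
  [8,7,2,4]],[[4,0,0,8],
  [0,1,0,0],
  [0,0,1,0],
  [7,0,0,7]],[[7,0,0,4],
  [0,1,0,0],
  [0,0,1,0],
  [5,0,0,4]],[[1,0,0,0],
  [0,4,0,8],
  [0,0,1,0],
  [0,7,0,7]],[[1,0,0,0],
  [0,7,0,4],
  [0,0,1,0],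
  [0,5,0,4]],[[1,0,0,0],
  [0,1,0,0],
  [0,0,4,8],
  [0,0,7,7]],[[1,0,0,0],
  [0,1,0,0],
  [0,0,7,4],
  [0,0,5,4]],[[4,4,3,8],
  [5,7,5,3],
  [3,4,4,8],
  [7,3,7,7]],[[7,8,6,4],
  [7,4,7,6],
  [6,8,7,4],
  [5,6,5,4]],[[4,7,3,8],
  [8,7,8,2],
  [3,7,4,8],
  [7,1,7,7]],[[7,5,6,4],
  [4,4,4,1],
  [6,5,7,4],
  [5,2,5,4]],[[4,5,3,8],
  [4,7,4,1],
  [3,5,4,8],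
  [7,2,7,7]],[[7,7,6,4],
  [8,4,8,2],
  [6,7,7,4],
  [5,1,5,4]],[[4,8,3,8],
  [7,7,7,6],
  [3,8,4,8],
  [7,6,7,7]],[[7,4,6,4],
  [5,4,5,3],
  [6,4,7,4],
  [5,3,5,4]],[[4,4,6,8],
  [5,7,7,3],
  [6,8,4,4],
  [7,3,5,7]],[[7,8,3,4],
  [7,4,5,6],
  [3,4,7,8],
  [5,6,7,4]],[[4,7,6,8],
  [8,7,4,2],
  [6,5,4,4],
  [7,1,5,7]],[[7,5,3,4],
  [4,4,8,1],
  [3,7,7,8],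
  [5,2,7,4]],[[4,5,6,8],
  [4,7,8,1],
  [6,7,4,4],
  [7,2,5,7]],[[7,7,3,4],
  [8,4,4,2],
  [3,5,7,8],
  [5,1,7,4]],[[4,8,6,8],
  [7,7,5,6],
  [6,4,4,4],
  [7,6,5,7]],[[7,4,3,4],
  [5,4,7,3],
  [3,8,7,8],
  [5,3,7,4]],[[4,4,1,8],
  [5,7,4,3],
  [2,5,4,7],
  [7,3,8,7]],[[7,8,2,4],
  [7,4,8,6],
  [1,7,7,5],
  [5,6,4,4]],[[4,7,1,8],
  [8,7,5,2],
  [2,4,4,7],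
  [7,1,8,7]],[[7,5,2,4],
  [4,4,7,1],
  [1,8,7,5],
  [5,2,4,4]],[[4,5,1,8],
  [4,7,7,1],
  [2,8,4,7],
  [7,2,8,7]],[[7,7,2,4],
  [8,4,5,2],
  [1,4,7,5],
  [5,1,4,4]],[[4,8,1,8],
  [7,7,8,6],
  [2,7,4,7],
  [7,6,8,7]],[[7,4,2,4],
  [5,4,4,3],
  [1,5,7,5],
  [5,3,4,4]],[[4,3,4,8],
  [3,4,4,8],
  [5,5,7,3],
  [7,7,3,7]],[[7,6,8,4],
  [6,7,8,4],
  [7,7,4,6],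
  [5,5,6,4]],[[4,6,4,8],
  [6,4,8,4],
  [5,7,7,3],
  [7,5,3,7]],[[7,3,8,4],
  [3,7,4,8],
  [7,5,4,6],
  [5,7,6,4]],[[4,1,4,8],
  [2,4,5,7],
  [5,4,7,3],
  [7,8,3,7]],[[7,2,8,4],
  [1,7,7,5],
  [7,8,4,6],
  [5,4,6,4]],[[4,2,4,8],
  [1,4,7,5],
  [5,8,7,3],
  [7,4,3,7]],[[7,1,8,4],
  [2,7,5,7],
  [7,4,4,6],
  [5,8,6,4]],[[4,3,7,8],
  [3,4,7,8],
  [8,8,7,2],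
  [7,7,1,7]],[[7,6,5,4],
  [6,7,5,4],
  [4,4,4,1],
  [5,5,2,4]],[[4,6,7,8],
  [6,4,5,4],
  [8,4,7,2],
  [7,5,1,7]],[[7,3,5,4],
  [3,7,7,8],
  [4,8,4,1],
  [5,7,2,4]],[[4,1,7,8],
  [2,4,4,7],
  [8,5,7,2],
  [7,8,1,7]],[[7,2,5,4],
  [1,7,8,5],
  [4,7,4,1],
  [5,4,2,4]],[[4,2,7,8],
  [1,4,8,5],
  [8,7,7,2],
  [7,4,1,7]],[[7,1,5,4],
  [2,7,4,7],
  [4,5,4,1],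
  [5,8,2,4]],[[4,4,2,8],
  [5,7,8,3],
  [1,7,4,5],
  [7,3,4,7]],[[7,8,1,4],
  [7,4,4,6],
  [2,5,7,7],
  [5,6,8,4]],[[4,7,2,8],
  [8,7,7,2],
  [1,8,4,5],
  [7,1,4,7]],[[7,5,1,4],
  [4,4,5,1],
  [2,4,7,7],
  [5,2,8,4]],[[4,5,2,8],
  [4,7,5,1],
  [1,4,4,5],
  [7,2,4,7]],[[7,7,1,4],
  [8,4,7,2],
  [2,8,7,7],
  [5,1,8,4]],[[4,8,2,8],
  [7,7,4,6],
  [1,5,4,5],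
  [7,6,4,7]],[[7,4,1,4],
  [5,4,8,3],
  [2,7,7,7],
  [5,3,8,4]],[[4,3,5,8],
  [3,4,5,8],
  [4,4,7,1],
  [7,7,2,7]],[[7,6,7,4],
  [6,7,7,4],
  [8,8,4,2],
  [5,5,1,4]],[[4,6,5,8],
  [6,4,7,4],
  [4,8,7,1],
  [7,5,2,7]],[[7,3,7,4],
  [3,7,5,8],
  [8,4,4,2],
  [5,7,1,4]],[[4,1,5,8],
  [2,4,8,7],
  [4,7,7,1],
  [7,8,2,7]],[[7,2,7,4],
  [1,7,4,5],
  [8,5,4,2],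
  [5,4,1,4]],[[4,2,5,8],
  [1,4,4,5],
  [4,5,7,1],
  [7,4,2,7]],[[7,1,7,4],
  [2,7,8,7],
  [8,7,4,2],
  [5,8,1,4]],[[4,3,8,8],
  [3,4,8,8],
  [7,7,7,6],
  [7,7,6,7]],[[7,6,4,4],
  [6,7,4,4],
  [5,5,4,3],
  [5,5,3,4]],[[4,6,8,8],
  [6,4,4,4],
  [7,5,7,6],
  [7,5,6,7]],[[7,3,4,4],
  [3,7,8,8],
  [5,7,4,3],
  [5,7,3,4]],[[4,1,8,8],
  [2,4,7,7],
  [7,8,7,6],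
  [7,8,6,7]],[[7,2,4,4],
  [1,7,5,5],
  [5,4,4,3],
  [5,4,3,4]],[[4,2,8,8],
  [1,4,5,5],
  [7,4,7,6],
  [7,4,6,7]],[[7,1,4,4],
  [2,7,7,7],
  [5,8,4,3],
  [5,8,3,4]]]
set_option maxRecDepth 100000 in
/-- The generators as matrices. -/
def TML : List (List (List ℕ)) := [[[0,5,7,0],
  [8,1,1,0],
  [4,1,1,0],
  [0,0,0,1]],[[1,0,0,0],
  [0,2,0,0],
  [0,0,2,0],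
  [0,0,0,1]],[[1,5,3,0],
  [8,0,5,0],
  [6,8,1,0],
  [0,0,0,1]],[[2,0,0,0],
  [0,2,0,0],
  [0,0,1,0],
  [0,0,0,1]],[[0,0,5,5],
  [0,2,0,0],
  [8,0,2,1],
  [8,0,1,2]]]
set_option maxRecDepth 100000 in
/-- The generators as words in the root elements. -/
def gWL : List (List ℕ) := [[27,15,6],
  [34,54,39],
  [55,10,0],
  [6,3,0],
  [254,259,256]]
set_option maxRecDepth 100000 in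
/-- The root elements as words in the generators. -/
def uWL : List (List ℕ) := [[6,4,2,0,6,2,4,2,0,2],
  [4,6,2,0,2,4,6,2,0,2],
  [4,6,2,0,4,2,0,4,6,0],
  [0,6,4,0,2,4,0,6,2,4],
  [0,2,4,0,6,2,4,0,6,4],
  [4,6,0,4,6,2,0,4,2,0],
  [6,2,4,2,0,6,2,4,2,0],
  [2,4,6,2,0,2,4,6,2,0],
  [2,4,0,6,4,0,2,4,0,6],
  [6,0,4,2,0,4,6,0,4,2],
  [6,4,0,6,4,0,2,4,0,2],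
  [4,2,0,4,6,2,0,4,6,0],
  [2,0,4,6,2,0,4,2,0,4,6,2],
  [6,2,4,0,2,4,0,6,2,4,0,2],
  [6,0,4,6,2,0,4,2,0,4],
  [4,0,2,4,0,6,2,4,0,6],
  [6,2,4,0,6,4,0,2,4,0],
  [0,4,6,2,0,4,6,0,4,2],
  [4,0,6,4,0,2,4,0,6,2],
  [6,2,0,4,2,0,4,6,0,4],
  [0,6,4,0,2,4,0,6,4,0,2,0],
  [0,2,0,4,6,0,4,2,0,4,6,0],
  [0,4,6,2,0,4,2,0,4,6],
  [6,4,0,2,4,0,6,2,4,0],
  [4,0,6,2,4,0,6,4,0,2],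
  [6,2,0,4,6,0,4,2,0,4],
  [6,2,4,0,2,4,0,6,4,0],
  [4,6,0,4,2,0,4,6,2,0],
  [6,0,4,2,0,4,6,2,0,4],
  [4,0,6,2,4,0,2,4,0,6],
  [4,6,2,0,4,6,0,4,2,0],
  [0,6,2,4,0,6,4,0,2,4],
  [2,4,6,0,2,0,4,0,6,4,0],
  [6,0,4,6,2,0,2,4,0,2,0],
  [4,6,0,2,4,6,2,0,4,2],
  [4,0,6,2,4,2,0,6,4,2],
  [6,4,2,0,4,6,0,4,2,0,6,4],
  [6,0,2,4,6,0,2,0,4,0,2,4],
  [0,6,4,2,0,4,6,0,4,2,0,6],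
  [6,0,2,4,0,6,4,0,2,4,6,0],
  [6,4,0,2,4,0,6,4,0,2],
  [2,0,4,6,0,4,2,0,4,6],
  [2,4,0,6,2,4,0,6,4,0],
  [6,0,4,6,0,4,2,0,4,2],
  [0,4,2,0,4,6,2,0,4,6],
  [6,4,0,6,2,4,0,2,4,0],
  [6,4,2,0,4,6,0,4,2,0,6,0],
  [4,6,0,2,4,6,0,2,0,4,0,2],
  [0,4,0,6,2,4,0,6,4,0,2,0],
  [0,6,2,0,4,6,0,4,2,0,4,0],
  [0,6,0,4,2,0,4,6,0,4,2,0],
  [0,2,4,0,6,4,0,2,4,0,6,0],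
  [6,0,2,0,4,2,0,6,2,4,0],
  [6,2,0,4,6,4,2,0,2,4,0],
  [0,4,0,6,4,0,2,4,0,6,2,0],
  [0,6,2,0,4,2,0,4,6,0,4,0],
  [0,4,8,6,4,0,6,2,4,8,4,0,8,2],
  [2,8,0,4,8,4,6,2,0,4,6,8,4,0],
  [2,0,4,8,6,4,0,6,2,4,8,4,0,8],
  [8,0,4,8,4,6,2,0,4,6,8,4,0,2],
  [0,6,8,4,0,2,4,6,4,0,8,2,0,4],
  [4,0,2,8,0,4,6,4,2,0,4,8,6,0],
  [0,2,4,0,4,2,8,2,4,2,0,4,8,2,4,2],
  [0,8,2,4,6,8,4,0,6,8,4,0,2,0,6,4],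
  [4,8,4,0,6,8,4,2,8,4,0,8,2],
  [2,8,0,4,8,2,4,8,6,0,4,8,4],
  [6,8,2,4,6,2,0,2,4,8,0,2],
  [8,4,2,0,6,2,4,2,8,6,2,0],
  [2,4,8,4,0,6,8,4,2,8,4,0,8],
  [8,0,4,8,2,4,8,6,0,4,8,4,2],
  [0,8,0,4,6,4,2,0,2,4,8,6,2],
  [6,0,8,4,2,0,6,2,4,2,8,2],
  [6,8,0,4,0,6,8,4,0,6,4,8,0],
  [0,8,4,6,0,4,8,6,0,4,0,8,6],
  [0,2,0,6,4,8,0,8,2,4,0,6,4,8,4,2],
  [0,2,8,6,4,0,2,4,0,6,4,0,2,8,2,0],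
  [2,4,8,4,0,4,6,4,8,4,0,4,2,8],
  [8,2,4,0,4,8,4,6,4,0,4,8,4,2],
  [0,6,0,8,0,4,2,0,4,6,8,6,0,4],
  [4,0,6,8,6,4,0,2,4,0,8,0,6,0],
  [0,6,0,4,8,2,4,2,0,4,6,8,0,4],
  [4,0,8,6,4,0,2,4,2,8,4,0,6,0],
  [0,6,4,8,6,0,4,8,4,2,0,4,0,8,2],
  [2,8,0,4,0,2,4,8,4,0,6,8,4,6,0],
  [8,0,4,6,2,0,4,6,0,4,2,8],
  [8,6,2,4,0,6,4,0,2,4,0,8],
  [4,8,0,2,4,0,6,8,4,0,8,2,0],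
  [0,2,8,0,4,8,6,0,4,2,0,8,4],
  [8,6,4,0,2,4,0,6,2,4,0,8],
  [8,0,4,6,2,0,4,2,0,4,6,8],
  [0,6,2,8,4,2,0,4,6,0,4,8],
  [8,4,0,6,4,0,2,4,8,6,2,0],
  [6,8,6,4,8,0,6,0,4,8,0,2,4,0],
  [0,4,2,0,8,4,0,6,0,8,4,6,8,6],
  [0,2,8,4,0,2,4,8,0,2,0,4,0,8,0],
  [0,8,0,4,0,2,0,8,4,2,0,4,8,2,0],
  [2,0,6,2,8,4,2,0,4,6,0,4,8,2],
  [0,6,4,0,2,8,2,4,0,2,4,6,8,2],
  [4,0,2,0,8,2,4,2,0,4,8,2,0],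
  [0,2,8,4,0,2,4,2,8,0,2,0,4],
  [2,8,4,0,2,4,8,0,2,0,4,0,8],
  [8,0,4,0,2,0,8,4,2,0,4,8,2],
  [2,8,0,4,6,2,0,4,6,0,4,2,8,2],
  [2,8,6,2,4,0,6,4,0,2,4,0,8,2],
  [4,8,6,4,0,6,2,4,0,2,4,0,8,4],
  [4,8,0,4,2,0,4,6,2,0,4,6,8,4],
  [2,0,4,2,0,4,8,0,8,4,6,8,4,8,4],
  [0,2,8,4,0,6,2,4,8,0,2,0,8,2,4],
  [0,6,4,0,6,2,4,0,8,4,6,8,6,2,8,4],
  [8,6,4,0,6,2,4,0,2,8,4,8,4,0,6],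
  [4,8,4,0,4,6,4,8,4,0,4,2,8,2],
  [2,8,2,4,0,4,8,4,6,4,0,4,8,4],
  [2,8,2,4,8,4,8,0,8,2,4,8,4,0],
  [0,4,8,4,2,8,0,8,4,8,4,2,8,2],
  [8,2,4,8,4,8,0,8,2,4,8,4,0,2],
  [2,0,4,8,4,2,8,0,8,4,8,4,2,8],
  [0,6,0,8,4,0,2,4,0,6,4,8,2,0],
  [0,2,8,4,6,0,4,2,0,4,8,0,6,0],
  [0,6,0,8,4,2,0,2,8,0,2,4,2,8,4,2],
  [0,4,0,2,0,8,4,6,8,6,0,4,8,4,6,2],
  [4,0,8,4,0,6,2,4,2,8,4,0,6,0],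
  [0,6,0,4,8,2,4,6,2,0,4,8,0,4],
  [6,2,8,2,4,6,2,0,2,4,8,0],
  [0,8,4,2,0,6,2,4,2,8,6,2],
  [0,8,2,0,6,4,8,6,0,4,8,4,2,0,4],
  [4,0,2,4,8,4,0,6,8,4,6,0,2,8,0],
  [8,2,4,6,2,0,2,4,8,0,6,2],
  [2,6,0,8,4,2,0,6,2,4,2,8],
  [8,0,4,0,2,4,0,6,4,0,8,0,6,2],
  [2,0,4,0,2,0,8,4,6,0,2,4,2,8],
  [0,8,0,4,8,2,4,8,0,4,6,8,4,2,0],
  [0,2,4,8,6,4,0,8,4,2,8,4,0,8,0],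
  [0,4,8,4,6,0,2,0,4,6,8,0,4,0,6],
  [2,4,8,2,4,8,6,0,4,8,4,2,8,0,2],
  [0,2,0,8,4,2,0,4,2,8,2,0,4],
  [4,0,2,8,2,4,0,2,4,8,0,2,0],
  [4,8,0,6,4,0,2,4,0,6,2,4,8,4],
  [4,8,4,6,2,0,4,2,0,4,6,0,8,4],
  [0,8,4,2,0,6,8,4,2,0,8,4,8,6,8,2],
  [2,6,4,8,0,8,4,8,4,2,0,4,8,2,0,4],
  [0,8,4,0,6,2,4,2,0,6,4,2,8,0],
  [0,8,4,6,0,2,4,6,2,0,4,2,8,0],
  [0,8,4,6,0,4,6,2,0,4,2,0,8,0],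
  [0,8,0,2,4,0,6,2,4,0,6,4,8,0],
  [0,8,6,0,4,6,0,4,2,0,4,2,8,0],
  [0,8,2,4,0,6,2,4,0,6,4,0,8,0],
  [0,8,6,0,4,2,0,4,6,2,0,4,8,0],
  [0,8,4,0,6,2,4,0,2,4,0,6,8,0],
  [2,8,2,4,2,0,6,4,8,0,2,0,4,0],
  [0,4,0,2,0,8,4,6,0,2,4,2,8,2],
  [0,2,0,8,4,6,0,4,2,8,2,0,4,2,8],
  [8,2,4,0,2,8,2,4,0,6,4,8,0,2,0],
  [2,0,8,4,6,4,2,0,4,8,2,0,4,0],
  [0,4,0,2,8,4,0,2,4,6,4,8,0,2],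
  [4,0,6,0,8,2,4,2,0,4,6,8,6,0],
  [0,6,8,6,4,0,2,4,6,0,8,2,0,4],
  [2,0,8,4,6,0,4,2,8,2,0,4,2,8,0],
  [0,8,2,4,0,2,8,2,4,0,6,4,8,0,2],
  [0,6,0,2,8,4,2,0,4,6,0,4,8,6],
  [6,8,4,0,6,4,0,2,4,8,2,0,6,0],
  [0,6,0,4,8,4,6,0,2,0,4,6,8,0,4],
  [4,0,8,6,4,0,2,0,6,4,8,4,0,6,0],
  [0,6,8,4,2,0,4,6,0,4,8,0,2,0],
  [0,2,0,8,4,0,6,4,0,2,4,8,6,0],
  [0,2,0,2,8,4,2,0,4,2,8,2,0,4,2],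
  [6,4,0,8,6,4,0,2,4,2,8,4,6,0],
  [0,8,2,4,8,4,0,6,8,4,2,8,4],
  [4,8,2,4,8,6,0,4,8,4,2,8,0],
  [8,2,4,8,6,4,0,8,4,2,8,4,0],
  [0,4,8,2,4,8,0,4,6,8,4,2,8],
  [2,8,2,4,8,6,4,0,8,4,2,8,4,0,2],
  [2,0,4,8,2,4,8,0,4,6,8,4,2,8,2],
  [0,4,2,0,8,4,0,2,4,0,6,4,8,6,4,0],
  [0,4,0,2,4,8,2,4,0,2,4,8,4,0,4,2],
  [8,4,2,8,2,0,4,8,4,2,8,0,8,4],
  [4,8,0,8,2,4,8,4,0,2,8,2,4,8],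
  [0,8,6,0,4,6,2,0,4,2,0,4,8,0],
  [0,8,4,0,2,4,0,6,2,4,0,6,8,0],
  [0,8,0,8,6,4,8,0,4,2,8,4,6,8,0,4],
  [8,4,2,8,2,0,8,4,8,6,4,0,6,2,4],
  [0,4,2,8,2,4,8,4,0,4,6,4,8,4],
  [4,8,4,6,4,0,4,8,4,2,8,2,4,0],
  [4,8,0,4,8,2,4,8,0,4,6,8,2,4,2],
  [2,4,2,8,6,4,0,8,4,2,8,4,0,8,4],
  [0,4,6,4,8,4,0,4,2,8,2,4,8,4],
  [4,8,4,2,8,2,4,0,4,8,4,6,4,0],
  [8,4,6,0,4,6,2,0,4,2,0,8],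
  [8,0,2,4,0,6,2,4,0,6,4,8],
  [2,8,4,0,4,8,4,0,6,8,4,0,4,6,4],
  [4,6,4,0,4,8,6,0,4,8,4,0,4,8,2],
  [8,2,4,8,4,0,4,6,4,8,4,0,4,2],
  [2,4,0,4,8,4,6,4,0,4,8,4,2,8],
  [0,6,0,8,4,0,6,4,8,0,6,8,0,4,6],
  [6,4,0,8,6,0,8,4,6,0,4,8,0,6,0],
  [0,6,0,4,8,0,4,2,0,4,6,8,0,4],
  [0,4,0,8,6,4,0,2,4,0,8,4,0,6],
  [4,8,6,4,0,6,4,0,2,4,0,2,8,4],
  [4,8,4,2,0,4,6,2,0,4,6,0,8,4],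
  [2,8,2,0,4,6,0,4,2,0,4,6,8,2],
  [2,8,6,4,0,2,4,0,6,4,0,2,8,2],
  [0,4,0,2,0,8,2,4,2,0,4,8,2],
  [2,8,4,0,2,4,2,8,0,2,0,4,0],
  [2,8,6,4,0,6,2,4,0,2,4,0,8,2],
  [2,8,0,4,2,0,4,6,2,0,4,6,8,2],
  [0,4,8,2,0,4,6,8,6,0,4,8,4,6,2],
  [0,4,6,8,6,0,4,8,4,8,2,0,4,8,2],
  [0,8,2,0,4,6,0,4,2,0,4,6,8,0],
  [0,8,6,4,0,2,4,0,6,4,0,2,8,0],
  [8,6,4,0,6,2,4,0,2,4,0,8],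
  [8,0,4,2,0,4,6,2,0,4,6,8],
  [8,6,0,4,6,0,4,2,0,4,2,8],
  [8,2,4,0,6,2,4,0,6,4,0,8],
  [8,2,0,4,6,0,4,2,0,4,6,8],
  [8,6,4,0,2,4,0,6,4,0,2,8],
  [8,2,4,0,6,2,4,0,2,4,8,6,2,0],
  [0,2,6,8,4,2,0,4,6,2,0,4,2,8],
  [0,8,0,8,4,6,8,4,8,2,0,4,2,0,4],
  [0,2,8,4,0,2,8,4,8,6,4,0,8,6,4],
  [2,0,8,2,0,8,4,8,4,0,2,8,2,4,8,4],
  [4,8,4,0,8,4,0,8,4,8,2,0,2,4,0,6],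
  [2,8,2,4,8,4,0,4,6,4,8,4,0,4],
  [4,0,4,8,4,6,4,0,4,8,4,2,8,2],
  [4,8,2,4,8,6,0,4,8,4,6,2,8,2,0],
  [0,2,8,6,2,4,8,4,0,6,8,4,2,8,4],
  [0,2,6,0,8,4,2,0,6,2,4,2,8,0],
  [0,8,2,4,6,2,0,2,4,8,0,6,2,0],
  [2,8,4,2,8,2,4,0,4,8,4,6,4,0,4,2],
  [8,4,8,2,0,4,2,0,4,0,8,0,4,6,4],
  [6,8,4,0,8,4,0,2,4,0,2,8,4,2],
  [0,4,8,2,4,8,6,0,4,8,4,6,2,8,2],
  [0,2,4,0,2,8,2,4,0,2,4,8,2,0,2],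
  [6,4,8,2,4,2,0,4,6,8,0,4,6,0],
  [0,2,8,4,8,6,4,8,4,0,6,2,4,0,6,4],
  [0,4,0,8,2,4,0,2,4,0,8,4,6,2,8,0],
  [0,2,8,0,4,8,4,6,2,0,4,6,8,4],
  [2,6,8,4,0,8,4,2,0,4,6,4,8,4],
  [0,6,0,8,4,0,6,4,0,2,4,8,2,0],
  [0,2,8,4,2,0,4,6,0,4,8,0,6,0],
  [0,8,4,0,6,0,8,4,6,8,6,0,4,2],
  [2,4,0,6,8,6,4,8,0,6,0,4,8,0],
  [6,0,4,8,2,4,6,2,0,4,8,0,4,0],
  [0,4,0,8,4,0,6,2,4,2,8,4,0,6],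
  [0,2,0,8,2,4,8,4,8,2,0,4,6,2,0,4],
  [0,2,8,4,0,8,4,2,0,4,6,4,8,4,6,0],
  [8,4,0,8,2,4,0,2,4,0,8,4,6,2],
  [0,2,8,4,2,0,4,2,8,2,0,4,2,0,2],
  [0,2,0,6,4,0,8,2,4,6,8,4,0,6,8,4],
  [2,0,4,0,6,8,6,4,0,2,8,4,8,4,6,0],
  [4,6,8,4,6,0,4,2,0,4,8,0,2,4],
  [4,2,0,8,4,0,2,4,0,6,4,8,6,4],
  [4,2,8,4,6,0,4,2,0,4,8,0,6,4],
  [4,6,0,8,4,0,2,4,0,6,4,8,2,4],
  [4,8,0,2,4,0,6,8,6,4,8,0,6,0],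
  [0,6,0,8,4,6,8,6,0,4,2,0,8,4],
  [8,2,4,8,6,0,4,8,4,2,8,0,4],
  [8,4,0,8,2,4,8,4,0,6,8,4,2],
  [0,4,0,6,8,6,4,0,2,4,6,0,8,2],
  [2,8,0,6,4,2,0,4,6,8,6,0,4,0],
  [2,4,8,4,2,8,2,0,8,4,8,6,4,0,6],
  [6,0,4,6,8,4,8,0,2,8,2,4,8,4,2],
  [4,8,2,4,0,6,2,4,0,6,4,0,8,4],
  [4,8,6,0,4,6,0,4,2,0,4,2,8,4],
  [8,4,2,8,2,4,0,8,4,0,6,4,0,2,4],
  [0,8,2,4,0,2,4,8,4,8,6,0,2,0,4,2],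
  [6,4,8,2,4,6,2,0,4,8,0,4,6,0],
  [0,2,4,8,0,4,2,8,4,6,8,4,0,8],
  [4,0,8,0,6,4,0,6,2,4,8,4,0,6,0],
  [0,6,0,4,8,4,6,2,0,4,6,0,8,0,4],
  [0,4,0,4,6,8,6,4,0,2,4,6,0,8,2,4],
  [0,4,6,0,8,4,0,2,4,0,6,4,8,2,4,0],
  [0,8,2,4,8,0,4,6,8,4,2,8,0,4,0],
  [0,4,0,8,2,4,8,6,4,0,8,4,2,8,0],
  [8,0,2,4,8,0,4,2,8,4,6,8,4,0],
  [0,4,8,6,4,8,2,4,0,8,4,2,0,8],
  [0,2,4,8,4,0,6,8,4,6,0,2,8,0,4],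
  [2,4,6,0,4,2,8,4,6,8,4,6,0,8,4],
  [0,2,8,0,4,2,0,4,6,2,0,4,6,8,2,0],
  [0,2,4,0,2,8,0,4,8,4,2,8,0,2,0,4],
  [0,2,0,4,8,4,2,8,0,8,4,8,4,2,8,0],
  [0,2,8,4,8,6,8,0,8,4,0,6,4,0,2,4],
  [8,2,6,4,8,0,4,2,0,4,2,8,0,4],
  [4,0,4,8,0,2,4,0,6,8,4,0,8,2,4],
  [0,6,4,0,8,0,6,4,0,6,2,4,8,4,6],
  [6,4,8,4,6,2,0,4,6,0,8,0,4,6,0],
  [0,2,6,4,8,4,0,6,8,6,4,0,2,8,4],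
  [0,2,8,4,0,2,8,4,8,4,0,6,8,6,4],
  [8,0,4,0,6,4,0,2,4,0,8,0,6,2],
  [8,0,6,4,2,0,4,6,8,6,0,4,0,2],
  [4,8,6,0,4,8,4,2,8,0,4,8,2],
  [2,8,4,0,8,2,4,8,4,0,6,8,4],
  [8,0,6,4,2,0,4,6,0,4,2,0,6,8],
  [8,0,2,4,0,6,4,0,2,4,8,0,6,8,2],
  [4,8,4,2,8,2,0,8,4,8,6,4,0,6,2],
  [2,6,0,4,6,8,4,8,0,2,8,2,4,8,4],
  [4,8,4,0,6,2,4,0,2,4,0,6,8,4],
  [4,8,6,0,4,2,0,4,6,2,0,4,8,4],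
  [4,0,2,4,6,4,0,8,2,4,8,6,4,8,2],
  [0,4,6,8,4,0,6,4,8,0,6,8,4,0,4],
  [0,4,8,2,4,8,6,0,4,8,4,2,8],
  [8,2,4,8,4,0,6,8,4,2,8,4,0],
  [0,4,0,8,6,0,8,4,6,0,4,8,6],
  [6,8,4,0,6,4,8,0,6,8,0,4,0],
  [6,8,2,4,0,2,4,8,0,2,0,4,0,6,2],
  [6,8,6,0,4,6,2,0,4,2,0,4,8,6],
  [4,8,2,4,8,0,4,6,8,4,2,8,0],
  [0,8,2,4,8,6,4,0,8,4,2,8,4],
  [8,2,0,4,8,4,2,8,0,8,4,8,4,2],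
  [0,4,0,6,0,8,4,6,2,0,4,2,8,0,2],
  [2,8,2,0,4,8,4,2,8,0,8,4,8,4],
  [4,8,4,8,0,8,2,4,8,4,0,2,8,2],
  [2,4,8,2,4,8,0,4,6,8,4,2,8,0,2],
  [0,8,4,2,0,6,4,0,2,0,6,4,8,6,2],
  [0,8,6,4,0,2,4,0,8,4,0,6,0,4],
  [4,0,6,0,4,8,0,4,2,0,4,6,8,0],
  [2,0,8,0,8,4,8,4,2,8,0,4,8,4],
  [0,8,2,4,0,6,2,4,0,2,4,8,6,2],
  [2,8,4,0,6,2,4,0,2,4,0,6,8,2],
  [2,8,6,0,4,2,0,4,6,2,0,4,8,2],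
  [2,8,4,6,0,4,2,0,4,8,0,6],
  [6,0,8,4,0,2,4,0,6,4,8,2],
  [2,0,6,2,8,4,6,0,4,2,0,4,8,2],
  [2,8,4,0,2,4,0,6,4,8,6,2,0,2],
  [6,0,8,4,0,6,4,0,2,4,8,2],
  [2,8,4,2,0,4,6,0,4,8,0,6],
  [8,4,6,4,8,4,6,2,0,4,6,8,4,8,0],
  [6,4,0,2,8,2,4,0,4,2,8,4,8,4,0],
  [0,6,8,6,4,0,2,0,6,4,8,0,6,0,4],
  [2,4,0,8,2,4,8,6,4,0,8,4,2,8,2],
  [0,2,4,8,4,8,4,6,4,0,8,4,0,2,4],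
  [2,0,4,8,0,8,4,6,8,4,8,4,2,0,4],
  [4,0,6,8,6,4,0,2,4,6,0,8,2,0],
  [0,2,8,0,6,4,2,0,4,6,8,6,0,4],
  [8,0,2,0,8,4,6,0,4,8,6,0,4,6,2],
  [0,6,4,0,6,8,4,8,0,4,6,2,4,8,0,4],
  [0,4,8,4,6,4,0,4,8,4,2,8,2,4],
  [4,2,8,2,4,8,4,0,4,6,4,8,4,0],
  [2,4,8,4,0,8,2,4,8,6,4,0,8,2,4],
  [4,2,8,0,4,6,8,4,2,8,0,4,8,4,2],
  [4,0,6,8,6,4,0,2,0,6,4,8,0,6,0],
  [0,2,8,4,0,2,4,0,6,4,8,0,2,0,6],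
  [2,6,0,8,4,0,6,4,0,2,4,8],
  [8,4,2,0,4,6,0,4,8,0,6,2],
  [0,6,2,8,4,6,0,4,2,0,4,8],
  [8,4,0,2,4,0,6,4,8,6,2,0],
  [8,4,6,0,4,2,0,4,8,0,6,2],
  [2,6,0,8,4,0,2,4,0,6,4,8],
  [8,4,0,6,2,4,0,2,4,0,6,8],
  [8,6,0,4,2,0,4,6,2,0,4,8],
  [8,0,2,0,8,4,6,0,4,2,8,2,0,4,2],
  [0,2,4,0,2,0,8,4,8,6,0,4,2,0,8,2],
  [0,6,8,4,0,2,4,0,6,2,4,0,6,8,6,0],
  [6,4,0,6,8,4,0,6,4,8,0,2,0,8,2],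
  [0,2,0,6,8,4,6,0,4,2,0,4,8,2,0,2],
  [0,4,8,6,0,4,6,2,0,4,2,0,4,8,4,0],
  [4,0,2,0,8,4,6,0,2,4,2,8,2,0],
  [0,2,8,2,4,2,0,6,4,8,0,2,0,4],
  [8,2,4,8,0,4,6,8,4,2,8,0,4],
  [4,0,8,2,4,8,6,4,0,8,4,2,8],
  [0,4,0,2,4,8,4,0,2,4,2,8,4,0,4,2],
  [8,6,0,2,4,0,2,8,4,0,2,4,8,6,0],
  [6,0,4,0,8,6,4,0,2,4,2,8,4,0],
  [0,4,8,2,4,2,0,4,6,8,0,4,0,6],
  [4,0,8,4,2,0,6,2,4,2,8,6,2,4],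
  [4,2,6,8,2,4,6,2,0,2,4,8,0,4],
  [4,0,2,0,8,4,2,0,4,2,8,2,0],
  [0,2,8,2,4,0,2,4,8,0,2,0,4],
  [2,4,0,2,0,8,4,2,0,4,2,8,2,0,2],
  [2,0,2,8,2,4,0,2,4,8,0,2,0,4,2],
  [4,8,6,4,0,2,4,0,6,2,4,0,8,4],
  [4,8,0,4,6,2,0,4,2,0,4,6,8,4],
  [6,0,4,8,4,6,2,0,4,6,0,8,0,4,0],
  [0,4,0,8,0,6,4,0,6,2,4,8,4,0,6],
  [6,8,4,0,8,6,4,0,6,4,0,8,4,2],
  [2,4,8,6,0,4,6,0,4,8,0,4,8,6],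
  [0,4,8,0,4,6,0,2,4,2,0,8,4,0,8,2],
  [0,6,8,4,8,0,4,8,4,6,0,8,4,0,2,4],
  [0,4,0,6,8,4,0,6,4,8,0,6,8],
  [8,6,0,8,4,6,0,4,8,6,0,4,0],
  [2,4,8,0,4,8,2,4,8,0,4,6,8,2,4],
  [4,2,8,6,4,0,8,4,2,8,4,0,8,4,2],
  [0,4,0,8,2,0,6,4,8,6,0,4,8,4,2],
  [2,4,8,4,0,6,8,4,6,0,2,8,0,4,0],
  [0,4,8,0,2,4,0,6,8,4,0,8,2],
  [2,8,0,4,8,6,0,4,2,0,8,4,0],
  [2,0,4,8,0,4,2,0,4,6,8,0,4,0,6,2],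
  [8,2,6,4,0,6,4,8,6,4,0,8,4,6,4],
  [0,2,6,4,8,4,6,4,8,0,8,4,8,6,4],
  [2,4,0,8,6,0,8,4,6,0,4,8,6,0,2],
  [8,0,8,4,8,6,4,0,6,2,4,8,4,6,4],
  [0,2,4,0,6,8,4,8,0,4,8,4,6,0,8,4],
  [6,8,4,0,4,8,4,0,6,8,4,0,6,4,2],
  [8,4,0,2,8,4,8,6,4,0,8,6,4,0,2],
  [8,4,8,0,8,2,4,8,4,0,2,8,2,4],
  [4,2,8,2,0,4,8,4,2,8,0,8,4,8],
  [8,0,4,8,2,4,8,0,4,6,8,4,2],
  [2,4,8,6,4,0,8,4,2,8,4,0,8],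
  [0,4,0,6,0,8,2,4,2,0,4,6,8,6],
  [6,8,6,4,0,2,4,6,0,8,2,0,4,0],
  [6,8,4,6,8,6,0,4,2,0,8,4,6,0],
  [0,6,4,8,0,2,4,0,6,8,6,4,8,6],
  [2,0,4,6,2,8,6,0,4,8,6,0,4,8,4],
  [0,8,0,4,0,2,4,0,2,8,4,8,4,6,4],
  [8,0,6,4,0,2,4,0,6,2,4,8],
  [8,4,6,2,0,4,2,0,4,6,0,8],
  [4,0,6,0,4,8,4,6,0,2,0,4,6,8,0],
  [0,8,6,4,0,2,0,6,4,8,4,0,6,0,4],
  [0,8,6,4,0,2,4,0,6,2,4,0,8,0],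
  [0,8,0,4,6,2,0,4,2,0,4,6,8,0],
  [2,8,0,4,8,2,4,8,0,4,6,8,4],
  [4,8,6,4,0,8,4,2,8,4,0,8,2],
  [0,8,2,4,0,6,4,0,2,4,0,6,8,0],
  [0,8,6,0,4,2,0,4,6,0,4,2,8,0],
  [0,4,6,8,0,4,6,8,4,8,2,0,4,8,2],
  [2,8,4,0,2,8,4,8,6,4,0,8,6,4,0],
  [0,4,8,6,0,4,8,6,4,2,8,0,4,6,0,2],
  [2,0,6,4,0,8,2,4,6,8,4,0,6,8,4,0],
  [0,6,8,4,0,6,4,8,0,6,8,0,4],
  [4,0,8,6,0,8,4,6,0,4,8,6,0],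
  [0,4,8,0,4,2,0,4,6,8,0,4,0,6],
  [6,0,4,0,8,6,4,0,2,4,0,8,4,0],
  [4,0,8,4,0,6,4,0,2,4,8,6,2,4],
  [4,2,6,8,4,2,0,4,6,0,4,8,0,4],
  [0,6,0,4,0,8,6,4,0,2,0,6,4,8,4],
  [4,8,4,6,0,2,0,4,6,8,0,4,0,6,0],
  [2,0,4,8,2,4,8,6,0,4,8,4,2,8,2],
  [0,4,2,0,8,4,2,0,4,2,8,2,4,0,4],
  [2,8,6,0,4,2,0,4,6,0,4,2,8,2],
  [2,8,2,4,0,6,4,0,2,4,0,6,8,2],
  [4,8,4,0,6,4,0,2,4,8,6,2,0,4],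
  [4,0,6,2,8,4,2,0,4,6,0,4,8,4],
  [2,8,2,4,0,2,4,8,0,2,0,4,0],
  [0,4,0,2,0,8,4,2,0,4,2,8,2],
  [2,8,4,2,0,4,6,2,0,4,6,0,8,2],
  [2,8,6,4,0,6,4,0,2,4,0,2,8,2],
  [8,4,2,0,4,6,2,0,4,6,0,8],
  [8,6,4,0,6,4,0,2,4,0,2,8],
  [8,4,0,2,4,0,6,2,4,0,6,8],
  [8,6,0,4,6,2,0,4,2,0,4,8],
  [8,6,4,0,2,4,0,8,4,0,6,0,4,0],
  [0,4,0,6,0,4,8,0,4,2,0,4,6,8],
  [8,6,0,4,2,0,4,6,0,4,2,8],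
  [8,2,4,0,6,4,0,2,4,0,6,8],
  [2,0,8,4,0,6,4,0,2,4,8,6],
  [6,8,4,2,0,4,6,0,4,8,0,2],
  [0,4,0,2,8,0,4,6,4,2,0,4,8,6],
  [6,8,4,0,2,4,6,4,0,8,2,0,4,0],
  [6,8,4,6,0,4,2,0,4,8,0,2],
  [2,0,8,4,0,2,4,0,6,4,8,6],
  [2,0,8,4,6,0,2,4,2,8,2,0,4,0],
  [0,4,0,2,8,2,4,2,0,6,4,8,0,2],
  [0,4,6,8,4,8,0,8,4,6,4,8,4,6,2],
  [2,6,4,8,4,6,4,8,0,8,4,8,6,4,0],
  [0,2,0,8,2,4,8,0,4,6,8,4,6,0,4,2],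
  [0,2,4,0,4,2,8,4,2,0,4,2,8,2,4,2],
  [0,4,0,8,6,4,0,2,4,2,8,4,0,6],
  [6,0,4,8,2,4,2,0,4,6,8,0,4,0],
  [4,0,2,8,4,0,2,4,2,8,0,2,0],
  [0,2,0,8,2,4,2,0,4,8,2,0,4],
  [0,8,4,2,0,8,4,2,0,2,4,6,2,8,4,2],
  [0,6,4,0,6,4,8,4,8,0,4,6,2,4,8,4],
  [0,8,6,0,8,4,6,0,4,8,6,0,4],
  [4,0,6,8,4,0,6,4,8,0,6,8,0],
  [8,6,4,8,4,0,8,2,4,8,6,4,0,8,4],
  [0,2,6,4,8,4,0,6,8,6,4,8,0,2,0,4],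
  [0,6,8,4,6,0,4,2,0,4,8,0,2,0],
  [0,2,0,8,4,0,2,4,0,6,4,8,6,0],
  [0,8,4,6,0,2,4,2,8,2,0,4,0,2],
  [2,0,4,0,2,8,2,4,2,0,6,4,8,0],
  [6,2,8,4,6,0,4,2,0,4,8,0],
  [0,8,4,0,2,4,0,6,4,8,6,2],
  [8,4,6,4,0,4,8,4,2,8,2,4,0,4],
  [0,8,0,4,0,2,4,0,4,6,4,2,8,6,2],
  [0,8,4,0,6,4,0,2,4,8,6,2],
  [6,2,8,4,2,0,4,6,0,4,8,0],
  [2,0,8,6,0,8,4,6,0,4,8,6,0,4,2],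
  [2,4,0,6,8,4,0,6,4,8,0,6,8,0,2],
  [0,4,6,8,4,0,6,4,0,8,4,8,6,8,4],
  [4,8,6,8,4,8,0,4,6,0,4,8,6,4,0],
  [4,8,4,0,2,4,0,6,2,4,0,6,8,4],
  [4,8,6,0,4,6,2,0,4,2,0,4,8,4],
  [4,2,0,8,4,0,6,0,8,4,6,8,6,0],
  [0,6,8,6,4,8,0,6,0,4,8,0,2,4],
  [4,2,8,2,4,0,2,4,8,0,2,4,0,4,0],
  [0,4,0,4,2,0,8,4,2,0,4,2,8,2,4],
  [0,4,2,8,0,8,4,0,2,0,6,4,8,4,6],
  [6,4,8,4,6,0,2,0,4,8,0,8,2,4,0],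
  [8,4,0,6,0,8,4,6,8,6,0,4,2,0],
  [0,2,0,2,8,2,4,2,0,4,8,2,0,4,2],
  [0,8,2,0,4,8,6,4,0,6,2,4,8,4],
  [0,2,0,8,4,6,4,2,0,4,8,2,0,4],
  [8,0,4,2,0,2,4,6,4,8,6,2,0],
  [8,0,4,6,4,2,0,2,4,8,6,2,0],
  [8,4,2,8,2,4,0,4,8,4,6,4,0,4],
  [4,0,4,6,4,8,4,0,4,2,8,2,4,8],
  [0,6,0,4,0,8,6,4,0,2,4,0,8,4],
  [4,8,0,4,2,0,4,6,8,0,4,0,6,0],
  [6,4,0,4,8,6,0,4,8,4,0,4,8,2,4],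
  [8,0,6,8,4,2,0,4,8,2,0,4,2,0,6],
  [0,4,8,2,4,6,2,0,4,8,0,4,0,6],
  [6,0,4,0,8,4,0,6,2,4,2,8,4,0],
  [4,8,4,2,8,0,8,4,8,4,2,8,2,0],
  [0,2,8,2,4,8,4,8,0,8,2,4,8,4],
  [8,4,0,8,2,4,8,6,4,0,8,4,2],
  [2,4,8,0,4,6,8,4,2,8,0,4,8],
  [2,8,4,0,8,2,4,8,6,4,0,8,4],
  [4,8,0,4,6,8,4,2,8,0,4,8,2],
  [0,2,8,0,4,8,2,4,8,6,0,4,8,4,0],
  [0,4,8,4,0,6,8,4,2,8,4,0,8,2,0],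
  [6,4,8,4,6,4,0,2,4,8,0,4,8,2],
  [2,8,4,0,8,4,2,0,4,6,4,8,4,6],
  [0,6,8,4,0,6,4,0,2,4,8,2,0,6],
  [6,0,2,8,4,2,0,4,6,0,4,8,6,0],
  [0,6,4,8,0,6,4,0,8,4,8,6,4,8,4,2],
  [8,0,4,8,2,4,8,6,0,2,0,4,8,4,2],
  [2,4,8,0,4,8,2,4,8,6,0,4,8,2,4],
  [4,2,8,4,0,6,8,4,2,8,4,0,8,4,2],
  [4,0,4,2,8,4,0,2,4,2,8,0,2,4,0],
  [0,4,2,0,8,2,4,2,0,4,8,2,4,0,4],
  [8,0,2,4,0,6,8,6,4,8,0,6,0,4],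
  [4,0,6,0,8,4,6,8,6,0,4,2,0,8],
  [0,4,0,2,8,2,4,0,2,4,8,0,2],
  [2,0,8,4,2,0,4,2,8,2,0,4,0],
  [0,4,0,2,8,4,0,2,4,2,8,0,2],
  [2,0,8,2,4,2,0,4,8,2,0,4,0],
  [2,0,8,0,4,2,0,4,6,2,0,4,6,8,0,2],
  [6,8,2,0,2,4,0,6,4,0,2,4,8,0,2],
  [6,4,8,4,2,8,2,0,8,4,8,6,4,0,2],
  [8,0,8,4,8,2,4,2,0,6,4,8,4,0,4],
  [2,8,4,0,4,8,4,6,4,0,4,8,4,8],
  [8,4,8,4,0,4,6,4,8,4,0,4,8,2],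
  [4,2,6,8,4,6,4,8,6,0,4,8,4,6,0],
  [0,6,4,8,4,0,6,8,4,6,4,8,6,2,4],
  [0,6,0,4,0,8,0,6,4,0,6,2,4,8,4],
  [2,8,4,0,8,2,4,8,4,0,2,0,6,8,4],
  [0,4,0,4,2,8,4,0,2,4,2,8,0,2,4],
  [4,2,0,8,2,4,2,0,4,8,2,4,0,4,0],
  [0,4,2,8,2,4,0,2,4,8,0,2,4,0,4],
  [4,0,4,2,0,8,4,2,0,4,2,8,2,4,0],
  [0,8,0,2,4,8,0,4,2,8,4,6,8,4],
  [4,8,6,4,8,2,4,0,8,4,2,0,8,0],
  [0,4,8,4,2,8,2,4,0,4,8,4,6,4],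
  [4,6,4,8,4,0,4,2,8,2,4,8,4,0],
  [6,4,8,0,2,4,0,6,8,6,4,8,6,0],
  [0,6,8,4,6,8,6,0,4,2,0,8,4,6],
  [0,8,0,4,8,4,6,2,0,4,6,8,4,0,2,0],
  [0,2,0,4,8,6,4,0,6,2,4,8,4,0,8,0],
  [4,8,2,4,6,2,0,4,8,0,4,0,6,0],
  [0,6,0,4,0,8,4,0,6,2,4,2,8,4],
  [6,4,0,8,0,6,4,0,6,2,4,8,4,6,0],
  [0,6,4,8,4,6,2,0,4,6,0,8,0,4,6],
  [8,0,4,0,2,4,0,2,8,4,8,4,6,4,0],
  [8,4,0,8,2,4,8,4,0,2,0,6,8,4,2],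
  [2,0,4,0,2,8,4,0,2,4,2,8,0],
  [0,8,2,4,2,0,4,8,2,0,4,0,2],
  [2,0,4,0,2,8,2,4,0,2,4,8,0],
  [0,8,4,2,0,4,2,8,2,0,4,0,2],
  [0,8,4,2,0,4,6,2,0,4,6,0,8,0],
  [0,8,6,4,0,6,4,0,2,4,0,2,8,0],
  [0,8,0,4,2,0,4,6,2,0,4,6,8,0],
  [0,8,6,4,0,6,2,4,0,2,4,0,8,0]]
/-- The root elements, as a function. -/
noncomputable abbrev RTf : ℕ → List (List ℕ) := fun l => lg [] RTL l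
/-- The words, as a function. -/
noncomputable abbrev uWf : ℕ → List ℕ := fun l => lg [] uWL l
set_option maxHeartbeats 0 in
set_option maxRecDepth 100000 in
theorem hRT00 : ∀ (l : Fin 560) (a b : Fin 4),
    decide (rootMU l.val a b = toM FC9 ord4 (RTf l.val) a b) = true := by decide +kernel
theorem hroot : ∀ l, l < 560 → Phi9 (rootU l) = toM FC9 ord4 (RTf l) := by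
  intro l hl
  rw [rootU_val l hl]
  ext a b
  exact of_decide_eq_true (hRT00 ⟨l, hl⟩ a b)
set_option maxHeartbeats 0 in
set_option maxRecDepth 100000 in
theorem c1 : allBelow (fun l => shapeOK 4 (RTf l)) 560 = true := by decide +kernel
set_option maxHeartbeats 0 in
set_option maxRecDepth 100000 in
theorem c2 : allBelow (fun x => shapeOK 4 (lg [] TML x)) d = true := by decide +kernel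
set_option maxHeartbeats 0 in
set_option maxRecDepth 100000 in
theorem c3 : allBelow (fun x => (lg [] gWL x).all fun l => Nat.blt l 560) d = true := by decide +kernel
set_option maxHeartbeats 0 in
set_option maxRecDepth 100000 in
theorem c4 : allBelow (fun x => allBelow (fun j => Nat.beq (actN FC9.add FC9.mul FC9.b RTf (lg [] gWL x) (FC9.b ^ j)) (colC FC9.b (lg [] TML x) j))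
      4) d = true := by decide +kernel
set_option maxHeartbeats 0 in
set_option maxRecDepth 100000 in
theorem c5 : allBelow (fun x => allBelow (fun j => Nat.beq (actN FC9.add FC9.mul FC9.b (fun l => lg [] TML (l / 2)) [2 * x, 2 * x] (FC9.b ^ j)) (FC9.b ^ j))
      4) d = true := by decide +kernel
set_option maxHeartbeats 0 in
set_option maxRecDepth 100000 in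
theorem c6 : (stdRels S).all (fun r => scs9.any fun S' => allBelow (fun j => Nat.beq (actN FC9.add FC9.mul FC9.b (fun l => lg [] TML (l / 2)) r (FC9.b ^ j)) (colC FC9.b S' j))
      4) = true := by decide +kernel
set_option maxHeartbeats 0 in
set_option maxRecDepth 100000 in
theorem c7w : allBelow (fun l => (uWf l).all fun a => Nat.blt a (2 * d)) 560 = true := by decide +kernel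
set_option maxHeartbeats 0 in
set_option maxRecDepth 100000 in
theorem c7 : allBelow (fun l => allBelow (fun j => Nat.beq (actN FC9.add FC9.mul FC9.b (fun l => lg [] TML (l / 2)) (uWf l) (FC9.b ^ j)) (colC FC9.b (RTf l) j))
      4) 560 = true := by decide +kernel
theorem hle : Nat.card P ≤ Nat.card PSU9 := by
  rw [card_PSU9]
  exact finite_P.2
theorem ex_e : Nonempty (P ≃* PSU9) :=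
  exists_equiv_quot FC9 ord4 ord4_lt ord4_inj ord4_sum Phi9 Phi9_inj pi9 pi9_surj rootU 560 rootU_gen scs9 hsc9 scs9_len hP RTf TML gWL uWf hroot c1 c2 c3 c4 c5 hok c6 c7w c7 hle
/-- The isomorphism. -/
noncomputable def e : P ≃* PSU9 := ex_e.some
theorem card_P : Nat.card P = 3265920 := by
  rw [Nat.card_congr e.toEquiv, card_PSU9]

theorem hρ0inj : Function.Injective ρ0 := by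
  have hk := IsSimpleGroup.eq_bot_or_eq_top_of_normal (H := (ρ0.comp e.symm.toMonoidHom).ker) inferInstance
  rcases hk with h | h
  · have h1 : Function.Injective (ρ0.comp e.symm.toMonoidHom) := (MonoidHom.ker_eq_bot_iff _).1 h
    intro a b hab
    have h2 := h1 (a₁ := e a) (a₂ := e b) (by
      show ρ0 (e.symm (e a)) = ρ0 (e.symm (e b))
      rw [e.symm_apply_apply, e.symm_apply_apply]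
      exact hab)
    exact e.injective h2
  · exfalso
    have hm : e (v 0) ∈ (ρ0.comp e.symm.toMonoidHom).ker := by
      rw [h]
      trivial
    have h1 : ρ0 (v 0) = 1 := by simpa [MonoidHom.mem_ker] using hm
    rw [hρ0 0 (by decide)] at h1
    have h2 : CN.p 0 = 1 := by simpa using h1
    have h3 : allBelow (fun i => Nat.beq (CN.τ 0 i) i) N0 = false := by decide +kernel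
    have h4 : allBelow (fun i => Nat.beq (CN.τ 0 i) i) N0 = true := by
      rw [allBelow_iff]
      intro i hi
      have h5 := Coset.p_val CN (x := 0) (by decide) (i := ⟨i, hi⟩)
      rw [h2] at h5
      have h6 : i = CN.τ (2 * 0) i := h5
      show Nat.beq (CN.τ 0 i) i = true
      rw [show CN.τ 0 i = i from h6.symm]
      exact Nat.beq_refl i
    rw [h3] at h4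
    exact Bool.noConfusion h4

end Cfsg.Agent.Lib.KnownSimple.MultM.U43L
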